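import Cfsg.Agent.Lib.Fischer.Relations.Centralizer.Order

/-!
# The members fixed by a subgroup of prime order

Orbit counting for a subgroup `X` of prime order acting on a class by conjugation, the normalizer of `X`
above a central kernel of order two, and splitting a normalizer along a permutation action.
-/

set_option autoImplicit false
set_option linter.unusedSectionVars false

namespace Cfsg.Lib.Fischer.Relations.FixSet

open Cfsg Cfsg.Lib.Fischer

variable {G : Type*} [Group G] [Finite G]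

theorem mem_fixed {S : Set G} {X : Subgroup G} {e : G} :
    e ∈ S ∩ (Subgroup.centralizer (X : Set G) : Set G) ↔ e ∈ S ∧ ∀ x ∈ X, Commute x e := by
  rw [Set.mem_inter_iff, SetLike.mem_coe, Subgroup.mem_centralizer_iff]
  exact Iff.rfl

/-- Sylow: two subgroups of prime order are conjugate, if the prime divides the order once. -/
theorem prime_conj {p n : ℕ} (hp : p.Prime) (hG : Nat.card G = p * n) (hn : ¬ p ∣ n) {X Y : Subgroup G}
    (hX : Nat.card X = p) (hY : Nat.card Y = p) : ∃ g : G, X.map (MulAut.conj g).toMonoidHom = Y := by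
  have : Fact p.Prime := ⟨hp⟩
  have hf : (Nat.card G).factorization p = 1 := by
    rw [hG, Nat.factorization_mul hp.ne_zero (show n ≠ 0 by rintro rfl; exact hn (dvd_zero p)),
      Finsupp.add_apply, Nat.Prime.factorization_self hp, Nat.factorization_eq_zero_of_not_dvd hn, add_zero]
  let P : Sylow p G := Sylow.ofCard X (by rw [hX, hf, pow_one])
  let Q : Sylow p G := Sylow.ofCard Y (by rw [hY, hf, pow_one])
  obtain ⟨g, hg⟩ := MulAction.exists_smul_eq G P Q
  refine ⟨g, ?_⟩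
  have h : ((g • P : Sylow p G) : Subgroup G) = (Q : Subgroup G) := by rw [hg]
  rw [Sylow.coe_subgroup_smul] at h
  exact h

theorem commute_conj {X : Subgroup G} {g e : G} (hg : g ∈ Subgroup.normalizer (X : Set G))
    (he : ∀ x ∈ X, Commute x e) : ∀ x ∈ X, Commute x (g * e * g⁻¹) := fun x hx => by
  have hx' : g⁻¹ * x * g ∈ X := by simpa using (Subgroup.mem_normalizer_iff.1 (inv_mem hg) x).1 hx
  have h := (Commute.conj_iff g).2 (he _ hx')
  rwa [show g * (g⁻¹ * x * g) * g⁻¹ = x by group] at h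

theorem fixed_stable {S : Set G} {X : Subgroup G} {g : G} (hS : ∀ y ∈ S, g * y * g⁻¹ ∈ S)
    (hg : g ∈ Subgroup.normalizer (X : Set G)) {e : G}
    (he : e ∈ S ∩ (Subgroup.centralizer (X : Set G) : Set G)) :
    g * e * g⁻¹ ∈ S ∩ (Subgroup.centralizer (X : Set G) : Set G) :=
  mem_fixed.2 ⟨hS e (mem_fixed.1 he).1, commute_conj hg (mem_fixed.1 he).2⟩

/-- A transformer of `X` onto itself normalizes it. -/
theorem mem_normalizer_of_map {X : Subgroup G} {g : G} (h : X.map (MulAut.conj g).toMonoidHom = X) :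
    g ∈ Subgroup.normalizer (X : Set G) := by
  rw [Subgroup.mem_normalizer_iff]
  intro x
  refine ⟨fun hx => h ▸ ⟨x, hx, rfl⟩, fun hx => ?_⟩
  rw [← h] at hx
  obtain ⟨y, hy, e⟩ := hx
  exact (MulAut.conj g).injective e ▸ hy

/-- Orbits modulo the prime. -/
theorem card_fixed_mod {D : Set G} (hconj : ∀ g : G, ∀ d ∈ D, g * d * g⁻¹ ∈ D) {X : Subgroup G} {p : ℕ}
    (hp : p.Prime) (hX : Nat.card X = p) :
    D.ncard ≡ (D ∩ (Subgroup.centralizer (X : Set G) : Set G)).ncard [MOD p] := by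
  have : Fact p.Prime := ⟨hp⟩
  let _ : MulAction ↥X ↥D :=
    { smul := fun x y => ⟨(x : G) * y * (x : G)⁻¹, hconj x y y.2⟩
      one_smul := fun y => Subtype.ext (show (1 : G) * y * (1 : G)⁻¹ = y by simp)
      mul_smul := fun g h y => Subtype.ext (show (g : G) * h * y * ((g : G) * h)⁻¹ = g * (h * y * (h : G)⁻¹) * (g : G)⁻¹
        by group) }
  have h := (IsPGroup.of_card (n := 1) (by rw [hX, pow_one]) : IsPGroup p ↥X).card_modEq_card_fixedPoints ↥D
  have e : Nat.card ↥(MulAction.fixedPoints ↥X ↥D) =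
      Nat.card ↥(D ∩ (Subgroup.centralizer (X : Set G) : Set G)) := by
    refine Nat.card_eq_of_bijective (fun y => ⟨(y.1 : G), mem_fixed.2 ⟨y.1.2, fun x hx => ?_⟩⟩)
      ⟨fun u v huv => Subtype.ext (Subtype.ext (congrArg (fun z : ↥(D ∩ _) => (z : G)) huv)),
        fun y => ⟨⟨⟨y, (mem_fixed.1 y.2).1⟩, fun x => Subtype.ext ?_⟩, Subtype.ext rfl⟩⟩
    · exact mul_inv_eq_iff_eq_mul.1 (congrArg Subtype.val (y.2 ⟨x, hx⟩))
    · exact mul_inv_eq_iff_eq_mul.2 ((mem_fixed.1 y.2).2 x x.2).eq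
  rw [e, Nat.card_coe_set_eq, Nat.card_coe_set_eq] at h
  exact h

variable {H : Subgroup G} {O : Set G} {X : Subgroup G} {p : ℕ}

/-- A fixed point forces the prime into a stabilizer. -/
theorem stab_dvd (hX : Nat.card X = p) (hXH : X ≤ H) (hst : ∀ k ∈ H, ∀ y ∈ O, k * y * k⁻¹ ∈ O)
    (htr : ∀ a ∈ O, ∀ y ∈ O, ∃ k ∈ H, k * a * k⁻¹ = y) {e : G} (he : e ∈ O) (hfix : ∀ x ∈ X, Commute x e) :
    p * Nat.card ↥O ∣ Nat.card H := by
  rw [card_conj_orbit he hst (htr e he), mul_comm p]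
  exact mul_dvd_mul_left _ (hX ▸ Subgroup.card_dvd_of_le
    (le_inf hXH fun x hx => Subgroup.mem_centralizer_singleton_iff.2 (hfix x hx)))

/-- The normalizer is transitive on the fixed points of a Sylow subgroup in an orbit. -/
theorem fixed_orbit {m : ℕ} (hp : p.Prime) (hH : Nat.card H = p * m) (hm : ¬ p ∣ m) (hX : Nat.card X = p)
    (hXH : X ≤ H) (hst : ∀ k ∈ H, ∀ y ∈ O, k * y * k⁻¹ ∈ O)
    (htr : ∀ a ∈ O, ∀ y ∈ O, ∃ k ∈ H, k * a * k⁻¹ = y) {e y : G}
    (he : e ∈ O ∩ (Subgroup.centralizer (X : Set G) : Set G))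
    (hy : y ∈ O ∩ (Subgroup.centralizer (X : Set G) : Set G)) :
    ∃ k ∈ Subgroup.normalizer (X : Set G) ⊓ H, k * e * k⁻¹ = y := by
  obtain ⟨he0, hef⟩ := mem_fixed.1 he
  obtain ⟨hy0, hyf⟩ := mem_fixed.1 hy
  obtain ⟨k, hk, hke⟩ := htr e he0 y hy0
  obtain ⟨T, hT⟩ : ∃ T, T = H ⊓ Subgroup.centralizer ({y} : Set G) := ⟨_, rfl⟩
  have hXT : X ≤ T := hT ▸ le_inf hXH fun x hx => Subgroup.mem_centralizer_singleton_iff.2 (hyf x hx)
  have hkT : X.map (MulAut.conj k).toMonoidHom ≤ T := by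
    rw [hT]
    rintro _ ⟨x, hx, rfl⟩
    refine ⟨H.mul_mem (H.mul_mem hk (hXH hx)) (H.inv_mem hk), Subgroup.mem_centralizer_singleton_iff.2 ?_⟩
    exact hke ▸ ((Commute.conj_iff k).2 (hef x hx)).eq
  obtain ⟨n, hn⟩ : p ∣ Nat.card T := hX ▸ Subgroup.card_dvd_of_le hXT
  have hpn : ¬ p ∣ n := fun h => hm ((Nat.mul_dvd_mul_iff_left hp.pos).1 (hH ▸
    dvd_trans (hn.symm ▸ mul_dvd_mul_left p h) (Subgroup.card_dvd_of_le (hT ▸ inf_le_left))))
  obtain ⟨s, hs⟩ := prime_conj (G := ↥T) hp hn hpn (X := (X.map (MulAut.conj k).toMonoidHom).subgroupOf T)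
    (Y := X.subgroupOf T)
    (by rw [Nat.card_congr (Subgroup.subgroupOfEquivOfLe hkT).toEquiv,
      Subgroup.card_map_of_injective (MulAut.conj k).injective, hX])
    (by rw [Nat.card_congr (Subgroup.subgroupOfEquivOfLe hXT).toEquiv, hX])
  obtain ⟨hsH, hsy⟩ : (s : G) ∈ H ∧ Commute (s : G) y := by
    have h := (SetLike.ext_iff.1 hT (s : G)).1 s.2
    exact ⟨h.1, Subgroup.mem_centralizer_singleton_iff.1 h.2⟩
  have hmap : X.map (MulAut.conj ((s : G) * k)).toMonoidHom = X := Subgroup.eq_of_le_of_card_ge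
    (by
      rintro _ ⟨x, hx, rfl⟩
      have h : s * ⟨k * x * k⁻¹, hkT ⟨x, hx, rfl⟩⟩ * s⁻¹ ∈ X.subgroupOf T :=
        hs ▸ ⟨⟨_, hkT ⟨x, hx, rfl⟩⟩, Subgroup.mem_subgroupOf.2 ⟨x, hx, rfl⟩, rfl⟩
      rw [Subgroup.mem_subgroupOf] at h
      show (s : G) * k * x * ((s : G) * k)⁻¹ ∈ X
      rw [show (s : G) * k * x * ((s : G) * k)⁻¹ = (s : G) * (k * x * k⁻¹) * (s : G)⁻¹ by group]
      exact h)
    (by rw [Subgroup.card_map_of_injective (MulAut.conj _).injective])
  refine ⟨(s : G) * k, ⟨mem_normalizer_of_map hmap, mul_mem hsH hk⟩, ?_⟩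
  rw [show (s : G) * k * e * ((s : G) * k)⁻¹ = (s : G) * (k * e * k⁻¹) * (s : G)⁻¹ by group, hke, hsy.eq,
    mul_inv_cancel_right]

/-- The number of fixed points times the prime divides the order of the normalizer. -/
theorem fixed_dvd {m : ℕ} (hp : p.Prime) (hH : Nat.card H = p * m) (hm : ¬ p ∣ m) (hX : Nat.card X = p)
    (hXH : X ≤ H) (hst : ∀ k ∈ H, ∀ y ∈ O, k * y * k⁻¹ ∈ O)
    (htr : ∀ a ∈ O, ∀ y ∈ O, ∃ k ∈ H, k * a * k⁻¹ = y)
    (hne : (O ∩ (Subgroup.centralizer (X : Set G) : Set G)).Nonempty) :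
    (O ∩ (Subgroup.centralizer (X : Set G) : Set G)).ncard * p ∣
      Nat.card ↥(Subgroup.normalizer (X : Set G) ⊓ H) := by
  obtain ⟨e, he⟩ := hne
  rw [card_conj_orbit (K := Subgroup.normalizer (X : Set G) ⊓ H) he (fun k hk y hy => fixed_stable (fun u hu => hst k hk.2 u hu) hk.1 hy)
    (fun y hy => fixed_orbit hp hH hm hX hXH hst htr he hy), Nat.card_coe_set_eq]
  exact mul_dvd_mul_left _ (hX ▸ Subgroup.card_dvd_of_le
    (le_inf (le_inf Subgroup.le_normalizer hXH)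
      fun x hx => Subgroup.mem_centralizer_singleton_iff.2 ((mem_fixed.1 he).2 x hx)))

/-- A map with kernel of order two doubles normalizers and centralizers of subgroups of odd prime order. -/
theorem card_preimage {Q : Type*} [Group Q] (φ : ↥H →* Q) (hφ : Function.Surjective φ)
    (hker : Nat.card φ.ker = 2) (hp : p.Prime) (hp2 : p ≠ 2) (hX : Nat.card X = p) (hXH : X ≤ H) :
    Nat.card ((X.subgroupOf H).map φ) = p ∧
      Nat.card ↥(Subgroup.normalizer (X : Set G) ⊓ H) =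
        2 * Nat.card ↥(Subgroup.normalizer (((X.subgroupOf H).map φ : Subgroup Q) : Set Q)) ∧
      Nat.card ↥(Subgroup.centralizer (X : Set G) ⊓ H) =
        2 * Nat.card ↥(Subgroup.centralizer (((X.subgroupOf H).map φ : Subgroup Q) : Set Q)) := by
  have : Fact p.Prime := ⟨hp⟩
  have hX' : ∀ x : ↥H, x ∈ X.subgroupOf H ↔ (x : G) ∈ X := fun x => Subgroup.mem_subgroupOf
  have hpow : ∀ x ∈ X.subgroupOf H, x ^ p = 1 := fun x hx => Subtype.ext (by
    have h := congrArg Subtype.val (pow_card_eq_one' (x := (⟨(x : G), (hX' x).1 hx⟩ : ↥X)))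
    rw [hX, SubgroupClass.coe_pow] at h
    simpa using h)
  have hcen : ∀ z ∈ φ.ker, (∀ y : ↥H, Commute y z) ∧ z ^ 2 = 1 := by
    intro z hz
    have h2 : z ^ 2 = 1 := by
      have h := congrArg Subtype.val (pow_card_eq_one' (x := (⟨z, hz⟩ : ↥φ.ker)))
      rwa [hker, SubgroupClass.coe_pow] at h
    refine ⟨fun y => ?_, h2⟩
    by_cases hz1 : z = 1
    · rw [hz1]; exact Commute.one_right y
    obtain ⟨_, u, huniq⟩ := Nat.card_eq_two_iff' (⟨1, one_mem _⟩ : ↥φ.ker) |>.1 hker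
    have h1 := huniq ⟨y * z * y⁻¹, φ.normal_ker.conj_mem z hz y⟩ (fun e => hz1 (by
      have e' : y * z * y⁻¹ = 1 := congrArg Subtype.val e
      rwa [conj_eq_one_iff] at e'))
    have h1' := huniq ⟨z, hz⟩ fun e => hz1 (congrArg Subtype.val e)
    exact mul_inv_eq_iff_eq_mul.1 (congrArg Subtype.val (h1.trans h1'.symm))
  -- equality modulo the kernel is equality for elements of order dividing `p`
  have hinj : ∀ u v : ↥H, u ^ p = 1 → v ^ p = 1 → φ u = φ v → u = v := by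
    intro u v hu hv e
    obtain ⟨hz, hz2⟩ := hcen (u⁻¹ * v) (by rw [MonoidHom.mem_ker, map_mul, map_inv, e, inv_mul_cancel])
    have h := (hz u).mul_pow p
    rw [mul_inv_cancel_left, hv, hu, one_mul] at h
    obtain ⟨k, rfl⟩ := hp.odd_of_ne_two hp2
    rw [pow_succ, pow_mul, hz2, one_pow, one_mul] at h
    exact inv_mul_eq_one.1 h.symm
  obtain ⟨X₁, hX₁⟩ : ∃ X₁, X₁ = X.subgroupOf H := ⟨_, rfl⟩
  rw [← hX₁] at hpow ⊢
  have hX1c : Nat.card X₁ = p := by rw [hX₁, Nat.card_congr (Subgroup.subgroupOfEquivOfLe hXH).toEquiv, hX]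
  have hc1 : Nat.card (X₁.map φ) = p := by
    rw [← hX1c]
    exact (Nat.card_eq_of_bijective (fun x : ↥X₁ => (⟨φ (x : ↥H), ⟨(x : ↥H), x.2, rfl⟩⟩ : ↥(X₁.map φ)))
      ⟨fun u v e => Subtype.ext (hinj _ _ (hpow _ u.2) (hpow _ v.2) (congrArg Subtype.val e)),
        fun ⟨_, x, hx, rfl⟩ => ⟨⟨x, hx⟩, rfl⟩⟩).symm
  have hN : Subgroup.normalizer (X₁ : Set ↥H) =
      (Subgroup.normalizer ((X₁.map φ : Subgroup Q) : Set Q)).comap φ := by
    ext y
    rw [Subgroup.mem_comap]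
    constructor
    · intro hy
      rw [Subgroup.mem_normalizer_iff]
      refine fun q => ⟨?_, ?_⟩
      · rintro ⟨x, hx, rfl⟩
        exact ⟨y * x * y⁻¹, (Subgroup.mem_normalizer_iff.1 hy x).1 hx, by simp⟩
      · rintro ⟨x, hx, e⟩
        exact ⟨y⁻¹ * x * y, by simpa using (Subgroup.mem_normalizer_iff.1 (inv_mem hy) x).1 hx, by
          rw [map_mul, map_mul, e, map_inv]; group⟩
    · intro hy
      refine mem_normalizer_of_map (Subgroup.eq_of_le_of_card_ge ?_
        (by rw [Subgroup.card_map_of_injective (MulAut.conj y).injective]))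
      rintro _ ⟨x, hx, rfl⟩
      obtain ⟨x', hx', e⟩ := (Subgroup.mem_normalizer_iff.1 hy (φ x)).1 ⟨x, hx, rfl⟩
      have h := hinj x' (y * x * y⁻¹) (hpow _ hx') (by rw [conj_pow, hpow _ hx, mul_one, mul_inv_cancel])
        (by rw [e, map_mul, map_mul, map_inv])
      show y * x * y⁻¹ ∈ X₁
      exact h ▸ hx'
  have hC : Subgroup.centralizer (X₁ : Set ↥H) =
      (Subgroup.centralizer ((X₁.map φ : Subgroup Q) : Set Q)).comap φ := by
    ext y
    rw [Subgroup.mem_comap, Subgroup.mem_centralizer_iff, Subgroup.mem_centralizer_iff]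
    constructor
    · rintro hy _ ⟨x, hx, rfl⟩
      rw [← map_mul, ← map_mul, hy x hx]
    · intro hy x hx
      have h := hinj (y * x * y⁻¹) x (by rw [conj_pow, hpow _ hx, mul_one, mul_inv_cancel]) (hpow _ hx)
        (by rw [map_mul, map_mul, ← hy (φ x) ⟨x, hx, rfl⟩, map_inv, mul_inv_cancel_right])
      exact (mul_inv_eq_iff_eq_mul.1 h).symm
  have hcard : ∀ S : Subgroup Q, Nat.card ↥(S.comap φ) = 2 * Nat.card ↥S := fun S => by
    rw [← hker, Subgroup.card_eq_card_quotient_mul_card_subgroup (φ.ker.subgroupOf (S.comap φ)),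
      Nat.card_congr (Subgroup.subgroupOfEquivOfLe (φ.ker_le_comap S)).toEquiv, mul_comm]
    refine congrArg _ ?_
    rw [← Subgroup.index, ← Subgroup.relIndex, ← MonoidHom.comap_bot, Subgroup.relIndex_comap,
      Subgroup.map_comap_eq_self_of_surjective hφ, Subgroup.relIndex_bot_left]
  refine ⟨hc1, ?_, ?_⟩
  · rw [← hcard, ← hN, ← Nat.card_congr (Subgroup.subgroupOfEquivOfLe
      (inf_le_right : Subgroup.normalizer (X : Set G) ⊓ H ≤ H)).toEquiv]
    refine Nat.card_congr (Equiv.subtypeEquivRight fun y => ?_)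
    rw [Subgroup.mem_subgroupOf, Subgroup.mem_inf, Subgroup.mem_normalizer_iff, Subgroup.mem_normalizer_iff]
    refine ⟨fun h x => by simpa [hX₁, Subgroup.mem_subgroupOf] using h.1 (x : G), fun h => ⟨fun x => ?_, y.2⟩⟩
    refine ⟨fun hx => by simpa [hX₁, Subgroup.mem_subgroupOf] using (h ⟨x, hXH hx⟩).1 (by
      simpa [hX₁, Subgroup.mem_subgroupOf] using hx), fun hx => ?_⟩
    have hxH : x ∈ H := by
      simpa [mul_assoc] using mul_mem (mul_mem (inv_mem y.2) (hXH hx)) y.2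
    simpa [hX₁, Subgroup.mem_subgroupOf] using (h ⟨x, hxH⟩).2 (by simpa [hX₁, Subgroup.mem_subgroupOf] using hx)
  · rw [← hcard, ← hC, ← Nat.card_congr (Subgroup.subgroupOfEquivOfLe
      (inf_le_right : Subgroup.centralizer (X : Set G) ⊓ H ≤ H)).toEquiv]
    refine Nat.card_congr (Equiv.subtypeEquivRight fun y => ?_)
    rw [Subgroup.mem_subgroupOf, Subgroup.mem_inf, Subgroup.mem_centralizer_iff, Subgroup.mem_centralizer_iff]
    refine ⟨fun h x hx => Subtype.ext (h.1 (x : G) (hX₁ ▸ hx : x ∈ X.subgroupOf H)), fun h => ⟨fun x hx => ?_, y.2⟩⟩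
    exact congrArg Subtype.val (h ⟨x, hXH hx⟩ (hX₁ ▸ (Subgroup.mem_subgroupOf.2 hx) : _ ∈ X₁))

/-- A map of `N` that is bijective on `L` splits `N`. -/
theorem split {N L : Subgroup G} (hLN : L ≤ N) {Q : Type*} [Group Q] (π : ↥N →* Q)
    (hbij : Function.Bijective (π.comp (Subgroup.inclusion hLN))) :
    π.ker.map N.subtype ⊓ L = ⊥ ∧ π.ker.map N.subtype ⊔ L = N ∧
      Nat.card N = Nat.card ↥(π.ker.map N.subtype) * Nat.card L := by
  obtain ⟨hi, hs⟩ := hbij
  refine ⟨(Subgroup.eq_bot_iff_forall _).2 ?_, le_antisymm (sup_le (Subgroup.map_subtype_le _) hLN) ?_, ?_⟩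
  · rintro _ ⟨⟨x, hx, rfl⟩, hL⟩
    have h := @hi ⟨x, hL⟩ 1 (by
      rw [map_one]
      exact hx)
    exact congrArg Subtype.val h
  · intro n hn
    obtain ⟨l, hl⟩ := hs (π ⟨n, hn⟩)
    have hk : (⟨n, hn⟩ : ↥N) * (Subgroup.inclusion hLN l)⁻¹ ∈ π.ker := by
      rw [MonoidHom.mem_ker, map_mul, map_inv, ← MonoidHom.comp_apply, hl, mul_inv_cancel]
    have := Subgroup.mul_mem_sup (S := π.ker.map N.subtype) (T := L) ⟨_, hk, rfl⟩ l.2
    simpa using this
  · rw [Subgroup.card_map_of_injective Subtype.val_injective,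
      Subgroup.card_eq_card_quotient_mul_card_subgroup π.ker, mul_comm,
      Nat.card_congr (QuotientGroup.quotientKerEquivOfSurjective π fun q => ⟨_, (hs q).choose_spec⟩).toEquiv,
      ← Nat.card_eq_of_bijective _ ⟨hi, hs⟩]

end Cfsg.Lib.Fischer.Relations.FixSet
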