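import Cfsg.Agent.Lib.Fischer.Relations.FixSet.Main

/-!
# Normalizers of orders seven and thirteen in type M(23), given those in type M(22)
-/

set_option autoImplicit false
set_option linter.unusedSectionVars false

namespace Cfsg.Lib.Fischer.Relations.FixSet

open Cfsg Cfsg.Lib.Fischer Equiv

variable {G : Type*} [Group G] [Finite G] {D : Set G}

/-- Order thirteen. -/
theorem thirteen_final (hT : Trans D) (hprim : Cfsg.IsPrimitiveUnderConj D) (h23 : Cfsg.IsOfTypeM23 G D)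
    (h22 : ∀ d, M23Data D d →
      ∀ Y : Subgroup (↥(Subgroup.closure (perp D d)) ⧸ Subgroup.center ↥(Subgroup.closure (perp D d))),
        Nat.card Y = 13 → Nat.card ↥(Subgroup.normalizer (SetLike.coe Y)) = 78 ∧
          Subgroup.centralizer (SetLike.coe Y) = Y) :
    (∀ X Y : Subgroup G, Nat.card X = 13 → Nat.card Y = 13 → ∃ g : G, X.map (MulAut.conj g).toMonoidHom = Y) ∧
    ∀ X : Subgroup G, Nat.card X = 13 → ∃ F : Subgroup G, Nat.card ↥F = 78 ∧ X ≤ F ∧
      F ⊓ Subgroup.centralizer (X : Set G) = X ∧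
      F ⊓ Subgroup.closure (D ∩ (Subgroup.centralizer (X : Set G) : Set G)) = ⊥ ∧
      (∀ x ∈ F, ∀ y ∈ Subgroup.closure (D ∩ (Subgroup.centralizer (X : Set G) : Set G)), x * y = y * x) ∧
      F ⊔ Subgroup.closure (D ∩ (Subgroup.centralizer (X : Set G) : Set G)) = Subgroup.normalizer (X : Set G) ∧
      Nonempty (↥(Subgroup.closure (D ∩ (Subgroup.centralizer (X : Set G) : Set G))) ≃* Perm (Fin 3)) := by
  obtain ⟨-, hDc, hG, -, -⟩ := m23_order hT hprim h23
  obtain ⟨d, K⟩ := m23_data hT hprim h23 fun c hc Q hQ =>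
    Dvd.dvd.trans (by norm_num) (ReflSeven.quot_dvd Q hQ hc)
  obtain ⟨F, _, _, hF, b, ⟨C⟩⟩ := exists_coord23 K
  refine ⟨fun X Y hX hY => prime_conj (n := 2 ^ 18 * 3 ^ 13 * 5 ^ 2 * 7 * 11 * 17 * 23) (by norm_num)
    (by rw [hG]; norm_num) (by norm_num) hX hY, fun X hX => ?_⟩
  obtain ⟨hf, hnc, hN, hC⟩ := m23_thirteen C hDc (h22 d K) hX
  have : Fact (Nat.Prime 13) := ⟨by norm_num⟩
  obtain ⟨F, h1, h2, h3, h4, h5, h6, h7⟩ := normalizer_three hT hX rfl hf hnc (by rw [hC])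
  exact ⟨F, by rw [hN] at h1; omega, h2, h3, h4, h5, h6, h7⟩

/-- Order seven. -/
theorem seven_final (hT : Trans D) (hprim : Cfsg.IsPrimitiveUnderConj D) (h23 : Cfsg.IsOfTypeM23 G D)
    (h22 : ∀ d, M23Data D d →
      ∀ Y : Subgroup (↥(Subgroup.closure (perp D d)) ⧸ Subgroup.center ↥(Subgroup.closure (perp D d))),
        Nat.card Y = 7 → ∃ F : Subgroup (↥(Subgroup.closure (perp D d)) ⧸
            Subgroup.center ↥(Subgroup.closure (perp D d))),
          Nat.card ↥F = 42 ∧ Y ≤ F ∧ F ⊓ Subgroup.centralizer (SetLike.coe Y) = Y ∧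
          F ⊓ Subgroup.closure (image (perp D d) ∩ (Subgroup.centralizer (SetLike.coe Y) : Set _)) = ⊥ ∧
          (∀ x ∈ F, ∀ y ∈ Subgroup.closure (image (perp D d) ∩ (Subgroup.centralizer (SetLike.coe Y) : Set _)),
            x * y = y * x) ∧
          F ⊔ Subgroup.closure (image (perp D d) ∩ (Subgroup.centralizer (SetLike.coe Y) : Set _)) =
            Subgroup.normalizer (SetLike.coe Y) ∧
          Nonempty (↥(Subgroup.closure (image (perp D d) ∩ (Subgroup.centralizer (SetLike.coe Y) : Set _))) ≃*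
            Perm (Fin 3))) :
    (∀ X Y : Subgroup G, Nat.card X = 7 → Nat.card Y = 7 → ∃ g : G, X.map (MulAut.conj g).toMonoidHom = Y) ∧
    ∀ X : Subgroup G, Nat.card X = 7 → ∃ F : Subgroup G, Nat.card ↥F = 42 ∧ X ≤ F ∧
      F ⊓ Subgroup.centralizer (X : Set G) = X ∧
      F ⊓ Subgroup.closure (D ∩ (Subgroup.centralizer (X : Set G) : Set G)) = ⊥ ∧
      (∀ x ∈ F, ∀ y ∈ Subgroup.closure (D ∩ (Subgroup.centralizer (X : Set G) : Set G)), x * y = y * x) ∧
      F ⊔ Subgroup.closure (D ∩ (Subgroup.centralizer (X : Set G) : Set G)) = Subgroup.normalizer (X : Set G) ∧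
      Nonempty (↥(Subgroup.closure (D ∩ (Subgroup.centralizer (X : Set G) : Set G))) ≃* Perm (Fin 5)) := by
  obtain ⟨-, hDc, hG, -, -⟩ := m23_order hT hprim h23
  obtain ⟨d, K⟩ := m23_data hT hprim h23 fun c hc Q hQ =>
    Dvd.dvd.trans (by norm_num) (ReflSeven.quot_dvd Q hQ hc)
  obtain ⟨F, _, _, hF, b, ⟨C⟩⟩ := exists_coord23 K
  refine ⟨fun X Y hX hY => prime_conj (n := 2 ^ 18 * 3 ^ 13 * 5 ^ 2 * 11 * 13 * 17 * 23) (by norm_num)
    (by rw [hG]; norm_num) (by norm_num) hX hY, fun X hX => ?_⟩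
  obtain ⟨hf, hloc, hN, hC⟩ := m23_seven C hDc (fun Y hY => by
    obtain ⟨F₁, f1, -, f3, f4, f5, f6, ⟨e⟩⟩ := h22 d K Y hY
    have hLC : Subgroup.closure (image (perp D d) ∩ (Subgroup.centralizer (SetLike.coe Y) : Set _)) ≤
        Subgroup.centralizer (SetLike.coe Y) := (Subgroup.closure_le _).2 fun s hs => hs.2
    obtain ⟨g1, g2⟩ := orders_of_split hY f3 f4 f5 f6 hLC
    obtain ⟨g3, g4⟩ := three_of_closure (fun s hs => K.imgTrans.set.1 s hs.1)
      (fun g hg s hs => fixed_stable (fun u hu => K.imgTrans.conj g u hu)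
        (Subgroup.centralizer_le_normalizer _ (hLC hg)) hs) e
    have h6 : Nat.card (Perm (Fin 3)) = 6 := by rw [Nat.card_perm, Nat.card_fin]; rfl
    rw [Nat.card_congr e.toEquiv, h6] at g1 g2
    exact ⟨by rw [g1, f1], by rw [g2], g3, g4⟩) hX
  have : Fact (Nat.Prime 7) := ⟨by norm_num⟩
  obtain ⟨F, h1, h2, h3, h4, h5, h6, h7⟩ := normalizer_five hT hX rfl hf (fun a ha => (hloc a ha).1)
    (fun a ha => (hloc a ha).2) (by rw [hC])
  exact ⟨F, by rw [hN] at h1; omega, h2, h3, h4, h5, h6, h7⟩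

end Cfsg.Lib.Fischer.Relations.FixSet
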