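import Cfsg.Agent.Lib.Fischer.Relations.FixSet.Sym
import Cfsg.Agent.Lib.Linear.PSUSimple

/-!
# Orders seven and thirteen in type M(23), from type M(22)
-/

set_option autoImplicit false
set_option linter.unusedSectionVars false

namespace Cfsg.Lib.Fischer.Relations.FixSet

open Cfsg Cfsg.Lib.Fischer Equiv

variable {G : Type*} [Group G] [Finite G] {D : Set G}

/-- With a simple quotient by the centre that is no `p`-group the `p`-core is central. -/
theorem pCore_le_center_of_quot {H : Type*} [Group H] [Finite H] (hs : IsSimpleGroup (H ⧸ Subgroup.center H))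
    (p : ℕ) (hnp : ¬ IsPGroup p (H ⧸ Subgroup.center H)) : Cfsg.pCore p H ≤ Subgroup.center H := by
  rcases Subgroup.Normal.eq_bot_or_eq_top ((inferInstance : (Cfsg.pCore p H).Normal).map
    (QuotientGroup.mk' (Subgroup.center H)) (QuotientGroup.mk'_surjective _)) with h | h
  · rwa [Subgroup.map_eq_bot_iff, QuotientGroup.ker_mk'] at h
  · exact absurd ((h ▸ (Lib.Core.pCore_isPGroup p H).map _ : IsPGroup p ↥(⊤ : Subgroup (H ⧸ Subgroup.center H))).of_equiv
      Subgroup.topEquiv) hnp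

/-- In type M(22) the neighbourhood group of some member has central cores. -/
theorem m22_cores {E : Set G} (h22 : Cfsg.IsOfTypeM22 G E) :
    ∃ d ∈ E, Cfsg.pCore 3 ↥(Subgroup.closure (perp E d)) ≤ Subgroup.center ↥(Subgroup.closure (perp E d)) ∧
      Cfsg.pCore 2 ↥(Subgroup.closure (perp E d)) ≤ Subgroup.center ↥(Subgroup.closure (perp E d)) := by
  obtain ⟨-, d, hd, c, -, -, ⟨F, i1, i2, hF, ⟨e⟩⟩, -⟩ := h22
  have hF' : Fintype.card F = 2 ^ 2 := hF
  replace e : ↥(Subgroup.closure (perp E d)) ⧸ Subgroup.center ↥(Subgroup.closure (perp E d)) ≃* Cfsg.PSU 6 F 2 := e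
  have hps : IsSimpleGroup (Cfsg.PSU 6 F 2) := Linear.Herm.psu_simple hF' (by norm_num)
  have hs := MulEquiv.isSimpleGroup e
  have hnp : ∀ p : ℕ, p.Prime → p ≠ 11 →
      ¬ IsPGroup p (↥(Subgroup.closure (perp E d)) ⧸ Subgroup.center ↥(Subgroup.closure (perp E d))) := by
    intro p hp hp11 h
    have : Fact p.Prime := ⟨hp⟩
    obtain ⟨k, hk⟩ := h.exists_card_eq
    rw [Nat.card_congr e.toEquiv, card_psu_six hF'] at hk
    have h11 : 11 ∣ p ^ k := hk ▸ (by norm_num : 11 ∣ 9196830720)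
    exact hp11 ((Nat.prime_dvd_prime_iff_eq (by norm_num) hp).1 ((by norm_num : Nat.Prime 11).dvd_of_dvd_pow h11)).symm
  exact ⟨d, hd, pCore_le_center_of_quot hs 3 (hnp 3 Nat.prime_three (by norm_num)),
    pCore_le_center_of_quot hs 2 (hnp 2 Nat.prime_two (by norm_num))⟩

set_option synthInstance.maxSize 2000 in
theorem perm_three_invol :
    (∀ σ τ : Perm (Fin 3), σ * σ = 1 → σ ≠ 1 → τ * τ = 1 → τ ≠ 1 → ∃ g, g * σ * g⁻¹ = τ) ∧
    (∀ σ τ : Perm (Fin 3), σ * σ = 1 → σ ≠ 1 → τ * τ = 1 → τ ≠ 1 → σ * τ = τ * σ → σ = τ) ∧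
    (Finset.univ.filter fun σ : Perm (Fin 3) => σ * σ = 1 ∧ σ ≠ 1).card = 3 :=
  ⟨by decide +kernel, by decide +kernel, by decide +kernel⟩

/-- Involutions spanning a symmetric group of degree three: there are three, pairwise non-commuting. -/
theorem three_of_closure {S : Set G} (hS : ∀ s ∈ S, orderOf s = 2)
    (hcl : ∀ g ∈ Subgroup.closure S, ∀ s ∈ S, g * s * g⁻¹ ∈ S) (e : ↥(Subgroup.closure S) ≃* Perm (Fin 3)) :
    S.ncard = 3 ∧ ∀ u ∈ S, ∀ v ∈ S, Commute u v → u = v := by
  classical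
  obtain ⟨hconj, hcomm, hcard⟩ := perm_three_invol
  have hin : ∀ s (hs : s ∈ S), e ⟨s, Subgroup.subset_closure hs⟩ * e ⟨s, Subgroup.subset_closure hs⟩ = 1 ∧
      e ⟨s, Subgroup.subset_closure hs⟩ ≠ 1 := by
    intro s hs
    refine ⟨?_, fun h => ?_⟩
    · rw [← map_mul, ← map_one e]
      refine congrArg e (Subtype.ext ?_)
      show s * s = 1
      rw [← pow_two, ← hS s hs, pow_orderOf_eq_one]
    · rw [← map_one e] at h
      have h1 : s = 1 := congrArg Subtype.val (e.injective h)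
      have := hS s hs
      rw [h1, orderOf_one] at this
      exact absurd this (by norm_num)
  refine ⟨?_, fun u hu v hv h => congrArg Subtype.val (e.injective (hcomm _ _ (hin u hu).1 (hin u hu).2
    (hin v hv).1 (hin v hv).2 (by rw [← map_mul, ← map_mul]; exact congrArg e (Subtype.ext h.eq))))⟩
  obtain ⟨s, hs⟩ : S.Nonempty := by
    rw [Set.nonempty_iff_ne_empty]
    intro h
    have h6 : Nat.card ↥(Subgroup.closure S) = 6 := by
      rw [Nat.card_congr e.toEquiv, Nat.card_perm, Nat.card_fin]; rfl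
    rw [h, Subgroup.closure_empty, Subgroup.card_bot] at h6
    norm_num at h6
  rw [← hcard, ← Set.ncard_coe_finset]
  refine Set.ncard_congr (fun u hu => e ⟨u, Subgroup.subset_closure hu⟩)
    (fun u hu => by simpa using hin u hu) (fun u v hu hv h => congrArg Subtype.val (e.injective h)) fun τ hτ => ?_
  simp only [Finset.coe_filter, Finset.mem_univ, true_and] at hτ
  obtain ⟨g, hg⟩ := hconj _ _ (hin s hs).1 (hin s hs).2 hτ.1 hτ.2
  refine ⟨(e.symm g : G) * s * (e.symm g : G)⁻¹, hcl _ (e.symm g).2 s hs, ?_⟩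
  rw [show (⟨(e.symm g : G) * s * (e.symm g : G)⁻¹, _⟩ : ↥(Subgroup.closure S)) =
    e.symm g * ⟨s, Subgroup.subset_closure hs⟩ * (e.symm g)⁻¹ from Subtype.ext rfl]
  rw [map_mul, map_mul, map_inv, e.apply_symm_apply]
  exact hg

/-- The orders behind a splitting of a normalizer. -/
theorem orders_of_split {Y F L : Subgroup G} {p : ℕ} (hY : Nat.card Y = p)
    (hYF : F ⊓ Subgroup.centralizer (Y : Set G) = Y) (hint : F ⊓ L = ⊥)
    (hcomm : ∀ x ∈ F, ∀ y ∈ L, x * y = y * x) (hsup : F ⊔ L = Subgroup.normalizer (Y : Set G))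
    (hL : L ≤ Subgroup.centralizer (Y : Set G)) :
    Nat.card ↥(Subgroup.normalizer (Y : Set G)) = Nat.card F * Nat.card L ∧
      Nat.card ↥(Subgroup.centralizer (Y : Set G)) = p * Nat.card L := by
  have hcard : ∀ A : Subgroup G, A ≤ F → Nat.card ↥(A ⊔ L) = Nat.card A * Nat.card L := by
    intro A hA
    let f : ↥A × ↥L →* G := MonoidHom.noncommCoprod A.subtype L.subtype fun a b => hcomm a (hA a.2) b b.2
    have hf : Function.Injective f := by
      rw [injective_iff_map_eq_one]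
      rintro ⟨a, b⟩ h
      have hab : (a : G) * b = 1 := h
      have ha : (a : G) ∈ F ⊓ L := ⟨hA a.2, by rw [eq_inv_of_mul_eq_one_left hab]; exact L.inv_mem b.2⟩
      rw [hint, Subgroup.mem_bot] at ha
      rw [ha, one_mul] at hab
      exact Prod.ext (Subtype.ext ha) (Subtype.ext hab)
    have hr : f.range = A ⊔ L := by
      rw [show f.range = A.subtype.range ⊔ L.subtype.range from MonoidHom.noncommCoprod_range _ _ _,
        Subgroup.range_subtype, Subgroup.range_subtype]
    rw [← hr, ← Nat.card_congr (MonoidHom.ofInjective hf).toEquiv, Nat.card_prod]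
  refine ⟨hsup ▸ hcard F le_rfl, ?_⟩
  rw [← hY, ← hcard Y (hYF.ge.trans inf_le_left)]
  refine congrArg (fun K : Subgroup G => Nat.card K) (le_antisymm (fun c hc => ?_) (sup_le (hYF.ge.trans inf_le_right) hL))
  have hc' : c ∈ F ⊔ L := hsup ▸ Subgroup.centralizer_le_normalizer _ hc
  have hFL : F ≤ Subgroup.normalizer (L : Set G) := fun x hx => by
    rw [Subgroup.mem_normalizer_iff]
    intro y
    refine ⟨fun hy => ?_, fun hy => ?_⟩
    · rwa [hcomm x hx y hy, mul_inv_cancel_right]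
    · have h := hcomm x hx _ hy
      have e : x * y * x⁻¹ = y := by
        calc x * y * x⁻¹ = x⁻¹ * (x * (x * y * x⁻¹)) := by group
          _ = x⁻¹ * ((x * y * x⁻¹) * x) := by rw [h]
          _ = y := by group
      rwa [e] at hy
  rw [← SetLike.mem_coe, Subgroup.coe_mul_of_left_le_normalizer_right F L hFL] at hc'
  obtain ⟨f, hf, l, hl, rfl⟩ := hc'
  refine Subgroup.mul_mem_sup ?_ hl
  rw [← hYF]
  refine ⟨hf, ?_⟩
  simpa using mul_mem hc (inv_mem (hL hl))

variable {F : Type} [Field F] [Fintype F] {hF : Fintype.card F = 2 ^ 2} {d b : G}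

/-- Neighbours fixed by `X` correspond to fixed members of the quotient. -/
theorem perp_fixed (C : Coord23 D d b hF) {p : ℕ} (hp : p.Prime) (hp2 : p ≠ 2) {X : Subgroup G}
    (hX : Nat.card X = p) (hXd : X ≤ Subgroup.centralizer ({d} : Set G)) :
    ∃ Y : Subgroup (↥(Subgroup.closure (perp D d)) ⧸ Subgroup.center ↥(Subgroup.closure (perp D d))),
      Nat.card Y = p ∧
      (perp D d ∩ (Subgroup.centralizer (X : Set G) : Set G)).ncard =
        (image (perp D d) ∩ (Subgroup.centralizer (SetLike.coe Y) : Set _)).ncard ∧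
      ∀ u (hu : u ∈ perp D d), u ∈ (Subgroup.centralizer (X : Set G) : Set G) ↔
        bar hu ∈ (Subgroup.centralizer (SetLike.coe Y) : Set _) := by
  obtain ⟨φ, hφ, hker, hc⟩ := exists_map C
  obtain ⟨hY, -, -⟩ := card_preimage φ hφ hker hp hp2 hX hXd
  have hiff : ∀ u (hu : u ∈ perp D d), u ∈ (Subgroup.centralizer (X : Set G) : Set G) ↔
      bar hu ∈ (Subgroup.centralizer (SetLike.coe ((X.subgroupOf (Subgroup.centralizer ({d} : Set G))).map φ)) : Set _) := by
    intro u hu
    rw [SetLike.mem_coe, Subgroup.mem_centralizer_iff, SetLike.mem_coe, Subgroup.mem_centralizer_iff]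
    refine ⟨?_, fun h x hx => ((hc u hu ⟨x, hXd hx⟩).2 (h _ ⟨_, Subgroup.mem_subgroupOf.2 hx, rfl⟩)).eq⟩
    rintro h _ ⟨x, hx, rfl⟩
    exact ((hc u hu x).1 (h x (Subgroup.mem_subgroupOf.1 hx))).eq
  refine ⟨_, hY, ?_, hiff⟩
  refine Set.ncard_congr (fun u hu => bar hu.1) (fun u hu => ⟨bar_mem hu.1, (hiff u hu.1).1 hu.2⟩)
    (fun u v hu hv h => bar_inj C.data.trans (fun _ hw => hw.1) C.data.nc hu.1 hv.1 h) ?_
  rintro q ⟨hq1, hq2⟩
  obtain ⟨u, hu, rfl⟩ := exists_bar hq1
  exact ⟨u, ⟨hu, (hiff u hu).2 hq2⟩, rfl⟩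

/-- Transitivity on three. -/
theorem m23_thirteen (C : Coord23 D d b hF) (hDc : D.ncard = 31671)
    (h13 : ∀ Y : Subgroup (↥(Subgroup.closure (perp D d)) ⧸ Subgroup.center ↥(Subgroup.closure (perp D d))),
      Nat.card Y = 13 → Nat.card ↥(Subgroup.normalizer (SetLike.coe Y)) = 78 ∧
        Subgroup.centralizer (SetLike.coe Y) = Y)
    {X : Subgroup G} (hX : Nat.card X = 13) :
    (D ∩ (Subgroup.centralizer (X : Set G) : Set G)).ncard = 3 ∧
      (∀ u ∈ D ∩ (Subgroup.centralizer (X : Set G) : Set G),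
        ∀ v ∈ D ∩ (Subgroup.centralizer (X : Set G) : Set G), Commute u v → u = v) ∧
      Nat.card ↥(Subgroup.normalizer (X : Set G)) = 468 ∧ Nat.card ↥(Subgroup.centralizer (X : Set G)) = 78 := by
  have hT := C.data.trans
  obtain ⟨hf, hall⟩ := around_all (f := 3) (k := 0) (nN := 156) (nC := 26) hT (by norm_num : Nat.Prime 13) hDc
    (by norm_num) C.data.mem
    (fun X hX hXd => around_member C (p := 13) (k := 0) (n₀ := 2) (nN := 78) (nC := 13)
      (m := 129123503308800 / 13) (by norm_num) (by norm_num) (by norm_num) (by norm_num)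
      (fun n hn h => by
        rcases hn with rfl | hn
        · norm_num at h
        · have h2 : n * 13 ∣ 12 * 13 := hn
          have h3 : n ∣ 12 := (Nat.mul_dvd_mul_iff_right (by norm_num : 0 < 13)).1 h2
          have h4 : n ≤ 12 := Nat.le_of_dvd (by norm_num) h3
          interval_cases n <;> first | rfl | exact absurd h (by decide) | exact absurd h3 (by decide))
      (fun Y hY => ⟨(h13 Y hY).1, by rw [(h13 Y hY).2, hY]⟩)
      (fun X hX hXd => by rw [thirteen_perp C hX hXd]; simp) hDc hX hXd) hX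
  obtain ⟨a, ha⟩ : (D ∩ (Subgroup.centralizer (X : Set G) : Set G)).Nonempty :=
    Set.nonempty_of_ncard_ne_zero (by omega)
  have hnc : ∀ u ∈ D ∩ (Subgroup.centralizer (X : Set G) : Set G),
      ∀ v ∈ D ∩ (Subgroup.centralizer (X : Set G) : Set G), Commute u v → u = v := by
    intro u hu v hv huv
    by_contra hne
    have h := (hall u hu).perp_card
    rw [Set.ncard_eq_zero] at h
    exact Set.notMem_empty v (h ▸ ⟨⟨hv.1, Ne.symm hne, huv⟩, hv.2⟩)
  obtain ⟨h1, h2⟩ := card_of_linked hT hf ha (hall a ha) fun u hu => by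
    by_cases h : u = a
    · exact ⟨1, one_mem _, by rw [h]; group⟩
    obtain ⟨hl, e⟩ := link hT ha hu fun hc => h (hnc a ha u hu hc).symm
    exact ⟨cj a u, hl.2, e⟩
  exact ⟨hf, hnc, h1, h2⟩

/-- Ten fixed by order seven. -/
theorem m23_seven (C : Coord23 D d b hF) (hDc : D.ncard = 31671)
    (h7 : ∀ Y : Subgroup (↥(Subgroup.closure (perp D d)) ⧸ Subgroup.center ↥(Subgroup.closure (perp D d))),
      Nat.card Y = 7 → Nat.card ↥(Subgroup.normalizer (SetLike.coe Y)) = 252 ∧
        Nat.card ↥(Subgroup.centralizer (SetLike.coe Y)) = 42 ∧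
        (image (perp D d) ∩ (Subgroup.centralizer (SetLike.coe Y) : Set _)).ncard = 3 ∧
        ∀ u ∈ image (perp D d) ∩ (Subgroup.centralizer (SetLike.coe Y) : Set _),
          ∀ v ∈ image (perp D d) ∩ (Subgroup.centralizer (SetLike.coe Y) : Set _), Commute u v → u = v)
    {X : Subgroup G} (hX : Nat.card X = 7) :
    (D ∩ (Subgroup.centralizer (X : Set G) : Set G)).ncard = 10 ∧
      (∀ a ∈ D ∩ (Subgroup.centralizer (X : Set G) : Set G),
        (perp D a ∩ (Subgroup.centralizer (X : Set G) : Set G)).ncard = 3 ∧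
        ∀ u ∈ perp D a ∩ (Subgroup.centralizer (X : Set G) : Set G),
          ∀ v ∈ perp D a ∩ (Subgroup.centralizer (X : Set G) : Set G), Commute u v → u = v) ∧
      Nat.card ↥(Subgroup.normalizer (X : Set G)) = 5040 ∧ Nat.card ↥(Subgroup.centralizer (X : Set G)) = 840 := by
  have hT := C.data.trans
  obtain ⟨hf, hall⟩ := around_all (f := 10) (k := 3) (nN := 504) (nC := 84) hT (by norm_num : Nat.Prime 7) hDc
    (by norm_num) C.data.mem
    (fun X hX hXd => around_member C (p := 7) (k := 3) (n₀ := 6) (nN := 252) (nC := 42)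
      (m := 129123503308800 / 7) (by norm_num) (by norm_num) (by norm_num) (by norm_num)
      (fun n hn h => by
        rcases hn with rfl | hn
        · norm_num at h
        · have h2 : n * 7 ∣ 72 * 7 := hn
          have h3 : n ∣ 72 := (Nat.mul_dvd_mul_iff_right (by norm_num : 0 < 7)).1 h2
          have h4 : n ≤ 72 := Nat.le_of_dvd (by norm_num) h3
          interval_cases n <;> first | rfl | exact absurd h (by decide) | exact absurd h3 (by decide))
      (fun Y hY => ⟨(h7 Y hY).1, (h7 Y hY).2.1⟩)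
      (fun X hX hXd => by
        obtain ⟨Y, hY, hn, hiff⟩ := perp_fixed C (by norm_num) (by norm_num) hX hXd
        refine ⟨hn.trans (h7 Y hY).2.2.1, fun u hu v hv huv => ?_⟩
        exact bar_inj hT (fun _ hw => hw.1) C.data.nc hu.1 hv.1 ((h7 Y hY).2.2.2 _
          ⟨bar_mem hu.1, (hiff u hu.1).1 hu.2⟩ _ ⟨bar_mem hv.1, (hiff v hv.1).1 hv.2⟩
          ((C.data.bar_comm hu.1 hv.1).1 huv))) hDc hX hXd) hX
  obtain ⟨a, ha⟩ : (D ∩ (Subgroup.centralizer (X : Set G) : Set G)).Nonempty :=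
    Set.nonempty_of_ncard_ne_zero (by omega)
  obtain ⟨h1, h2⟩ := card_of_linked hT hf ha (hall a ha) fun u hu => by
    by_cases h : u = a
    · exact ⟨1, one_mem _, by rw [h]; group⟩
    by_cases hc : Commute a u
    · -- a member commuting with neither
      obtain ⟨Su, hSu⟩ : ∃ Su : G → Set G,
          ∀ w, Su w = perp D w ∩ (Subgroup.centralizer (X : Set G) : Set G) := ⟨_, fun _ => rfl⟩
      obtain ⟨w, hw, hwn⟩ : ∃ w ∈ D ∩ (Subgroup.centralizer (X : Set G) : Set G),
          w ∉ insert a (Su a) ∪ insert u (Su u) := by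
        by_contra hcon
        push Not at hcon
        have h8 : (insert a (Su a) ∪ insert u (Su u)).ncard ≤ 8 := by
          refine (Set.ncard_union_le _ _).trans ?_
          have h1 := Set.ncard_insert_le a (Su a)
          have h2 := Set.ncard_insert_le u (Su u)
          rw [hSu a, (hall a ha).perp_card] at h1
          rw [hSu u, (hall u hu).perp_card] at h2
          rw [hSu a, hSu u]
          omega
        have h9 := (Set.ncard_le_ncard hcon).trans h8
        omega
      simp only [Set.mem_union, Set.mem_insert_iff, hSu, not_or] at hwn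
      have hwa : ¬ Commute a w := fun h => hwn.1.2 ⟨⟨hw.1, hwn.1.1, h⟩, hw.2⟩
      have hwu : ¬ Commute w u := fun h => hwn.2.2 ⟨⟨hw.1, hwn.2.1, h.symm⟩, hw.2⟩
      obtain ⟨l1, e1⟩ := link hT ha hw hwa
      obtain ⟨l2, e2⟩ := link hT hw hu hwu
      refine ⟨cj w u * cj a w, mul_mem l2.2 l1.2, ?_⟩
      rw [show cj w u * cj a w * a * (cj w u * cj a w)⁻¹ = cj w u * (cj a w * a * (cj a w)⁻¹) * (cj w u)⁻¹ by group,
        e1, e2]
    · obtain ⟨hl, e⟩ := link hT ha hu hc
      exact ⟨cj a u, hl.2, e⟩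
  exact ⟨hf, fun u hu => ⟨(hall u hu).perp_card, (hall u hu).nc⟩, h1, h2⟩

end Cfsg.Lib.Fischer.Relations.FixSet
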