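import Cfsg.Agent.Lib.Fischer.Relations.FixSet.Twenty
import Cfsg.Agent.Lib.Fischer.LocalSym.Graph

/-!
# Normalizers split over the symmetric group spanned by the fixed members

Three pairwise non-commuting fixed members span a symmetric group of degree three; ten, each commuting with
three pairwise non-commuting others, one of degree five. A normalizer then is this group times what
centralizes it.
-/

set_option autoImplicit false
set_option linter.unusedSectionVars false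

namespace Cfsg.Lib.Fischer.Relations.FixSet

open Cfsg Cfsg.Lib.Fischer Equiv

variable {G : Type*} [Group G] [Finite G] {D : Set G}

/-- The action of a stabilizer on a set. -/
theorem exists_action (N : Subgroup G) (S : Set G) (hst : ∀ g ∈ N, ∀ s ∈ S, g * s * g⁻¹ ∈ S) :
    ∃ π : ↥N →* Perm ↥S, (∀ (n : ↥N) (s : ↥S), (π n s : G) = (n : G) * s * (n : G)⁻¹) ∧
      π.ker.map N.subtype = N ⊓ Subgroup.centralizer S := by
  let _ : MulAction ↥N ↥S :=
    { smul := fun k y => ⟨(k : G) * y * (k : G)⁻¹, hst k k.2 y y.2⟩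
      one_smul := fun y => Subtype.ext (show (1 : G) * y * (1 : G)⁻¹ = y by simp)
      mul_smul := fun g h y => Subtype.ext (show (g : G) * h * y * ((g : G) * h)⁻¹ = g * (h * y * (h : G)⁻¹) * (g : G)⁻¹
        by group) }
  refine ⟨MulAction.toPermHom ↥N ↥S, fun _ _ => rfl, ?_⟩
  ext x
  constructor
  · rintro ⟨⟨y, hy⟩, hk, rfl⟩
    exact ⟨hy, Subgroup.mem_centralizer_iff.2 fun s hs =>
      (mul_inv_eq_iff_eq_mul.1 (congrArg Subtype.val (Equiv.ext_iff.1 hk ⟨s, hs⟩))).symm⟩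
  · rintro ⟨hy, hc⟩
    exact ⟨⟨x, hy⟩, Equiv.ext fun s => Subtype.ext
      (mul_inv_eq_iff_eq_mul.2 (Subgroup.mem_centralizer_iff.1 hc s s.2).symm), rfl⟩

/-- Splitting off the group spanned by the fixed members. -/
theorem split_fixed {X L : Subgroup G} {S : Set G} {Q : Type*} [Group Q] {p : ℕ} [hp : Fact p.Prime]
    (hX : Nat.card X = p)
    (hL : L = Subgroup.closure S) (hS : S ⊆ (Subgroup.centralizer (X : Set G) : Set G))
    (π : ↥(Subgroup.normalizer (X : Set G)) →* Q)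
    (hker : π.ker.map (Subgroup.normalizer (X : Set G)).subtype =
      Subgroup.normalizer (X : Set G) ⊓ Subgroup.centralizer S)
    (hLN : L ≤ Subgroup.normalizer (X : Set G))
    (hbij : Function.Bijective (π.comp (Subgroup.inclusion hLN)))
    (hC : Nat.card ↥(Subgroup.centralizer (X : Set G)) = p * Nat.card L) :
    ∃ F : Subgroup G, Nat.card ↥F * Nat.card L = Nat.card ↥(Subgroup.normalizer (X : Set G)) ∧ X ≤ F ∧
      F ⊓ Subgroup.centralizer (X : Set G) = X ∧ F ⊓ L = ⊥ ∧ (∀ x ∈ F, ∀ y ∈ L, x * y = y * x) ∧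
      F ⊔ L = Subgroup.normalizer (X : Set G) := by
  obtain ⟨hint, hsup, hcard⟩ := split hLN π hbij
  rw [hker] at hint hsup hcard
  have hCN : Subgroup.centralizer (X : Set G) ≤ Subgroup.normalizer (X : Set G) :=
    Subgroup.centralizer_le_normalizer _
  have hLC : L ≤ Subgroup.centralizer (X : Set G) := by rw [hL, Subgroup.closure_le]; exact hS
  obtain ⟨-, -, hcard'⟩ := split hLC (π.comp (Subgroup.inclusion hCN)) hbij
  have hk : (π.comp (Subgroup.inclusion hCN)).ker.map (Subgroup.centralizer (X : Set G)).subtype =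
      (Subgroup.normalizer (X : Set G) ⊓ Subgroup.centralizer S) ⊓ Subgroup.centralizer (X : Set G) := by
    rw [← hker]
    ext x
    constructor
    · rintro ⟨⟨y, hy⟩, h, rfl⟩
      exact ⟨⟨⟨y, hCN hy⟩, h, rfl⟩, hy⟩
    · rintro ⟨⟨⟨y, hy⟩, h, rfl⟩, hy'⟩
      exact ⟨⟨y, hy'⟩, h, rfl⟩
  rw [hk, hC] at hcard'
  have hXF : X ≤ Subgroup.normalizer (X : Set G) ⊓ Subgroup.centralizer S :=
    le_inf Subgroup.le_normalizer fun x hx => Subgroup.mem_centralizer_iff.2 fun s hs =>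
      (Subgroup.mem_centralizer_iff.1 (hS hs) x hx).symm
  have hXc : X ≤ Subgroup.centralizer (X : Set G) := by
    have : IsCyclic ↥X := isCyclic_of_prime_card (hp := hp) hX
    exact Subgroup.le_centralizer X
  refine ⟨_, hcard.symm, hXF, ?_, hint, fun x hx y hy => ?_, hsup⟩
  · exact (Subgroup.eq_of_le_of_card_ge (le_inf hXF hXc)
      (by rw [Nat.mul_right_cancel Nat.card_pos hcard'.symm, hX])).symm
  · have hy' : y ∈ Subgroup.centralizer ({x} : Set G) := by
      refine (Subgroup.closure_le (K := Subgroup.centralizer ({x} : Set G))).2 (fun s hs => ?_) (hL ▸ hy)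
      exact Subgroup.mem_centralizer_singleton_iff.2 (Subgroup.mem_centralizer_iff.1 hx.2 s hs)
    exact (Subgroup.mem_centralizer_singleton_iff.1 hy').symm

theorem three_swap : ∀ (σ : Perm (Fin 3)) (i j k : Fin 3), σ i = i → j ≠ i → k ≠ i → j ≠ k → σ j ≠ j →
    σ = swap j k := by decide +kernel

theorem three_others : ∀ i j k : Fin 3, j ≠ k → ∃ l, l ≠ j ∧ l ≠ k := by decide +kernel

/-- Three pairwise non-commuting fixed members. -/
theorem normalizer_three (hT : Trans D) {X : Subgroup G} {p : ℕ} [Fact p.Prime] (hX : Nat.card X = p) {S : Set G}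
    (hSdef : S = D ∩ (Subgroup.centralizer (X : Set G) : Set G)) (hS : S.ncard = 3)
    (hnc : ∀ u ∈ S, ∀ v ∈ S, Commute u v → u = v)
    (hC : Nat.card ↥(Subgroup.centralizer (X : Set G)) = p * 6) :
    ∃ F : Subgroup G, Nat.card ↥F * 6 = Nat.card ↥(Subgroup.normalizer (X : Set G)) ∧ X ≤ F ∧
      F ⊓ Subgroup.centralizer (X : Set G) = X ∧ F ⊓ Subgroup.closure S = ⊥ ∧
      (∀ x ∈ F, ∀ y ∈ Subgroup.closure S, x * y = y * x) ∧
      F ⊔ Subgroup.closure S = Subgroup.normalizer (X : Set G) ∧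
      Nonempty (↥(Subgroup.closure S) ≃* Perm (Fin 3)) := by
  have hD : ∀ s ∈ S, s ∈ D := fun s hs => (hSdef ▸ hs).1
  have hCX : S ⊆ (Subgroup.centralizer (X : Set G) : Set G) := fun s hs => (hSdef ▸ hs).2
  obtain ⟨π₀, hπ₀, hker₀⟩ := exists_action (Subgroup.normalizer (X : Set G)) S fun g hg s hs => by
    rw [hSdef] at hs ⊢
    exact fixed_stable (fun u hu => hT.conj g u hu) hg hs
  obtain ⟨e⟩ : Nonempty (↥S ≃ Fin 3) := ⟨(Finite.equivFinOfCardEq (by rw [Nat.card_coe_set_eq, hS]))⟩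
  obtain ⟨π, hπ⟩ : ∃ π : ↥(Subgroup.normalizer (X : Set G)) →* Perm (Fin 3),
      π = e.permCongrHom.toMonoidHom.comp π₀ := ⟨_, rfl⟩
  have hker : π.ker.map (Subgroup.normalizer (X : Set G)).subtype =
      Subgroup.normalizer (X : Set G) ⊓ Subgroup.centralizer S := by
    rw [hπ, ← hker₀]
    refine congrArg _ (SetLike.ext fun n => ?_)
    simp only [MonoidHom.mem_ker, MonoidHom.comp_apply, MulEquiv.coe_toMonoidHom, MulEquiv.map_eq_one_iff]
  have hπv : ∀ n i, e.symm (π n i) = π₀ n (e.symm i) := fun n i => by simp [hπ, Equiv.permCongr_apply]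
  obtain ⟨L, hL⟩ : ∃ L, L = Subgroup.closure S := ⟨_, rfl⟩
  have hLN : L ≤ Subgroup.normalizer (X : Set G) := by
    rw [hL, Subgroup.closure_le]
    exact fun s hs => Subgroup.centralizer_le_normalizer _ (hCX hs)
  have hmem : ∀ i, (e.symm i : G) ∈ L := fun i => hL ▸ Subgroup.subset_closure (e.symm i).2
  have hsw : ∀ j k : Fin 3, j ≠ k → ∃ l : ↥L, π.comp (Subgroup.inclusion hLN) l = swap j k := by
    intro j k hjk
    obtain ⟨i, hij, hik⟩ := three_others 0 j k hjk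
    refine ⟨⟨_, hmem i⟩, three_swap _ i j k ?_ hij.symm hik.symm hjk ?_⟩
    · apply e.symm.injective
      rw [MonoidHom.comp_apply, hπv]
      exact Subtype.ext (by rw [hπ₀]; simp)
    · intro h
      have h' := congrArg (fun z => (e.symm z : G)) h
      simp only [MonoidHom.comp_apply, hπv, hπ₀] at h'
      exact hij (e.symm.injective (Subtype.ext (hnc _ (e.symm i).2 _ (e.symm j).2 (mul_inv_eq_iff_eq_mul.1 h'))))
  have hsurj : Function.Surjective (π.comp (Subgroup.inclusion hLN)) := by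
    intro σ
    induction σ using Equiv.Perm.swap_induction_on with
    | one => exact ⟨1, map_one _⟩
    | swap_mul f j k hjk ih =>
      obtain ⟨u, hu⟩ := hsw j k hjk
      obtain ⟨v, hv⟩ := ih
      exact ⟨u * v, by rw [map_mul, hu, hv]⟩
  obtain ⟨d, a, c, hd, ha, hc, hda, hdc, hac, hset⟩ :
      ∃ d a c : G, d ∈ S ∧ a ∈ S ∧ c ∈ S ∧ d ≠ a ∧ d ≠ c ∧ a ≠ c ∧ S = {d, a, c} := by
    obtain ⟨x, y, z, hxy, hxz, hyz, h⟩ := Set.ncard_eq_three.1 hS
    exact ⟨x, y, z, by simp [h], by simp [h], by simp [h], hxy, hxz, hyz, h⟩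
  have hcard : Nat.card L ≤ 6 := by
    have hn : ¬ Commute d a := fun h => hda (hnc d hd a ha h)
    have hcl : cj d a ∈ S := by
      rw [hSdef]
      exact (link hT (hSdef ▸ hd) (hSdef ▸ ha) hn).1
    have hca : cj d a = c := by
      have h3 : cj d a = d ∨ cj d a = a ∨ cj d a = c := by simpa [hset] using hcl
      rcases h3 with h | h | h
      · exact absurd ((cj_inj hT (hD d hd)).1 (h.trans (cj_self hT (hD d hd)).symm)).symm hda
      · exact absurd ((cj_eq_self hT (hD d hd)).1 h) hn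
      · exact h
    have hLa : L ≤ Subgroup.closure ({d, a} : Set G) := by
      rw [hL, Subgroup.closure_le]
      intro s hs
      rw [hset] at hs
      rcases hs with rfl | rfl | rfl
      · exact Subgroup.subset_closure (Set.mem_insert _ _)
      · exact Subgroup.subset_closure (Set.mem_insert_of_mem _ rfl)
      · rw [← hca, cj_def]
        exact mul_mem (mul_mem (Subgroup.subset_closure (Set.mem_insert _ _))
          (Subgroup.subset_closure (Set.mem_insert_of_mem _ rfl))) (Subgroup.subset_closure (Set.mem_insert _ _))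
    have hdd := mul_self hT (hD d hd)
    have haa := mul_self hT (hD a ha)
    have hbr : d * a * d = a * d * a := braid hT (hD d hd) (hD a ha) hn
    have hK : Nat.card (Subgroup.zpowers a) ≤ 2 := by rw [Nat.card_zpowers, hT.set.1 a (hD a ha)]
    have h3 := LocalSym.card_closure_le ![1, d, a * d] (s := {d, a})
      (by rintro y (rfl | rfl); exacts [hdd, haa]) (Subgroup.zpowers a) ⟨0, by simp⟩ (by
      rintro y (rfl | rfl) i
      · fin_cases i
        · exact ⟨1, by simp⟩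
        · exact ⟨0, by simp [hdd]⟩
        · refine ⟨2, ?_⟩
          have e : y * (a * y) = a * y * a := by rw [← mul_assoc, hbr]
          simp only [Fin.mk_one, Fin.reduceFinMk, Matrix.cons_val]
          rw [e, inv_mul_cancel_left]
          exact Subgroup.mem_zpowers a
      · fin_cases i
        · exact ⟨0, by simp⟩
        · exact ⟨2, by simp⟩
        · exact ⟨1, by simp [← mul_assoc, haa, hdd, inv_eq_of_mul_eq_one_right hdd]⟩)
    exact (Subgroup.card_le_of_le hLa).trans (h3.2.trans (by omega))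
  have h6 : Nat.card (Perm (Fin 3)) = 6 := by rw [Nat.card_perm, Nat.card_fin]; rfl
  have hbij : Function.Bijective (π.comp (Subgroup.inclusion hLN)) :=
    hsurj.bijective_of_nat_card_le (h6 ▸ hcard)
  have hL6 : Nat.card L = 6 := (Nat.card_eq_of_bijective _ hbij).trans h6
  obtain ⟨F, h1, h2, h3, h4, h5, h7⟩ := split_fixed hX hL hCX π hker hLN hbij (by rw [hL6]; exact hC)
  subst hL
  exact ⟨F, hL6 ▸ h1, h2, h3, h4, h5, h7, ⟨MulEquiv.ofBijective _ hbij⟩⟩

set_option synthInstance.maxSize 2000 in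
/-- Adjacent transpositions go to any chain of transpositions with the same commutations. -/
theorem chain_conj : (∀ p q : Fin 5, p ≠ q → ∃ σ : Perm (Fin 5), σ * swap 0 1 * σ⁻¹ = swap p q) ∧
    (∀ p q : Fin 5, p ≠ q → swap p q * swap 0 1 ≠ swap 0 1 * swap p q → ∃ σ : Perm (Fin 5),
      σ * swap 0 1 * σ⁻¹ = swap 0 1 ∧ σ * swap 1 2 * σ⁻¹ = swap p q) ∧
    (∀ p q : Fin 5, p ≠ q → swap p q ≠ swap 0 1 → swap p q * swap 0 1 = swap 0 1 * swap p q →
      swap p q * swap 1 2 ≠ swap 1 2 * swap p q → ∃ σ : Perm (Fin 5), σ * swap 0 1 * σ⁻¹ = swap 0 1 ∧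
        σ * swap 1 2 * σ⁻¹ = swap 1 2 ∧ σ * swap 2 3 * σ⁻¹ = swap p q) ∧
    ∀ p q : Fin 5, p ≠ q → swap p q * swap 0 1 = swap 0 1 * swap p q → swap p q * swap 1 2 = swap 1 2 * swap p q →
      swap p q * swap 2 3 ≠ swap 2 3 * swap p q → swap p q = swap 3 4 :=
  ⟨by decide +kernel, by decide +kernel, by decide +kernel, by decide +kernel⟩

/-- A permutation of the transpositions respecting commutation is a conjugation, read on a chain. -/
theorem exists_conj_chain (t : Fin 4 → Perm (Fin 5)) (ht : ∀ i, ∃ p q, p ≠ q ∧ t i = swap p q)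
    (hc : ∀ i j : Fin 4, t i * t j = t j * t i ↔
      swap i.castSucc i.succ * swap j.castSucc j.succ = swap j.castSucc j.succ * swap i.castSucc i.succ) :
    ∃ σ : Perm (Fin 5), ∀ i : Fin 4, σ * swap i.castSucc i.succ * σ⁻¹ = t i := by
  obtain ⟨c1, c2, c3, c4⟩ := chain_conj
  -- each step moves one more transposition into place
  have mv : ∀ (σ : Perm (Fin 5)) (i : Fin 4), ∃ p q, p ≠ q ∧ σ⁻¹ * t i * σ = swap p q := fun σ i => by
    obtain ⟨p, q, hpq, e⟩ := ht i
    refine ⟨σ⁻¹ p, σ⁻¹ q, fun h => hpq (σ⁻¹.injective h), ?_⟩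
    rw [e, swap_apply_apply, inv_inv]
  have cm : ∀ (σ : Perm (Fin 5)) (i j : Fin 4), (σ⁻¹ * t i * σ) * (σ⁻¹ * t j * σ) = (σ⁻¹ * t j * σ) * (σ⁻¹ * t i * σ) ↔
      swap i.castSucc i.succ * swap j.castSucc j.succ = swap j.castSucc j.succ * swap i.castSucc i.succ := fun σ i j => by
    rw [← hc i j]
    have e : ∀ u v : Perm (Fin 5), (σ⁻¹ * u * σ) * (σ⁻¹ * v * σ) = σ⁻¹ * (u * v) * σ := fun u v => by group
    rw [e, e, mul_left_inj, mul_right_inj]
  have back : ∀ (σ u v : Perm (Fin 5)), σ⁻¹ * u * σ = v → σ * v * σ⁻¹ = u := fun σ u v h => by rw [← h]; group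
  have comp : ∀ (σ τ u v : Perm (Fin 5)), τ * u * τ⁻¹ = v → (σ * τ) * u * (σ * τ)⁻¹ = σ * v * σ⁻¹ :=
    fun σ τ u v h => by rw [← h]; group
  obtain ⟨p, q, hpq, e0⟩ := ht 0
  obtain ⟨σ, h0⟩ := c1 p q hpq
  replace h0 : σ * swap 0 1 * σ⁻¹ = t 0 := h0.trans e0.symm
  have hb0 : σ⁻¹ * t 0 * σ = swap 0 1 := by rw [← h0]; group
  obtain ⟨p1, q1, hpq1, e1⟩ := mv σ 1
  obtain ⟨τ, hτ0, hτ1⟩ := c2 p1 q1 hpq1 (by
    rw [← e1, ← hb0, Ne, cm]
    decide)
  obtain ⟨σ₁, hσ₁⟩ : ∃ s, s = σ * τ := ⟨_, rfl⟩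
  have g0 : σ₁ * swap 0 1 * σ₁⁻¹ = t 0 := by rw [hσ₁, comp σ τ _ _ hτ0, h0]
  have g1 : σ₁ * swap 1 2 * σ₁⁻¹ = t 1 := by rw [hσ₁, comp σ τ _ _ hτ1, back σ _ _ e1]
  have b0 : σ₁⁻¹ * t 0 * σ₁ = swap 0 1 := by rw [← g0]; group
  have b1 : σ₁⁻¹ * t 1 * σ₁ = swap 1 2 := by rw [← g1]; group
  obtain ⟨p2, q2, hpq2, e2⟩ := mv σ₁ 2
  obtain ⟨ρ, hρ0, hρ1, hρ2⟩ := c3 p2 q2 hpq2
    (by
      rw [← e2, ← b0, Ne, mul_left_inj, mul_right_inj]
      intro h
      have h1 := (hc 3 0).2 (by decide)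
      rw [← h, hc 3 2] at h1
      exact absurd h1 (by decide))
    (by rw [← e2, ← b0, cm]; decide) (by rw [← e2, ← b1, Ne, cm]; decide)
  obtain ⟨σ₂, hσ₂⟩ : ∃ s, s = σ₁ * ρ := ⟨_, rfl⟩
  have k0 : σ₂ * swap 0 1 * σ₂⁻¹ = t 0 := by rw [hσ₂, comp σ₁ ρ _ _ hρ0, g0]
  have k1 : σ₂ * swap 1 2 * σ₂⁻¹ = t 1 := by rw [hσ₂, comp σ₁ ρ _ _ hρ1, g1]
  have k2 : σ₂ * swap 2 3 * σ₂⁻¹ = t 2 := by rw [hσ₂, comp σ₁ ρ _ _ hρ2, back σ₁ _ _ e2]
  have d0 : σ₂⁻¹ * t 0 * σ₂ = swap 0 1 := by rw [← k0]; group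
  have d1 : σ₂⁻¹ * t 1 * σ₂ = swap 1 2 := by rw [← k1]; group
  have d2 : σ₂⁻¹ * t 2 * σ₂ = swap 2 3 := by rw [← k2]; group
  obtain ⟨p3, q3, hpq3, e3⟩ := mv σ₂ 3
  have h34 := c4 p3 q3 hpq3 (by rw [← e3, ← d0, cm]; decide) (by rw [← e3, ← d1, cm]; decide)
    (by rw [← e3, ← d2, Ne, cm]; decide)
  have k3 : σ₂ * swap 3 4 * σ₂⁻¹ = t 3 := back σ₂ _ _ (e3.trans h34)
  exact ⟨σ₂, fun i => by fin_cases i; exacts [k0, k1, k2, k3]⟩

/-- Ten fixed members, each commuting with three pairwise non-commuting others. -/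
theorem normalizer_five (hT : Trans D) {X : Subgroup G} {p : ℕ} [Fact p.Prime] (hX : Nat.card X = p) {S : Set G}
    (hSdef : S = D ∩ (Subgroup.centralizer (X : Set G) : Set G)) (hS : S.ncard = 10)
    (hk : ∀ a ∈ S, (perp D a ∩ (Subgroup.centralizer (X : Set G) : Set G)).ncard = 3)
    (hnc : ∀ a ∈ S, ∀ u ∈ perp D a ∩ (Subgroup.centralizer (X : Set G) : Set G),
      ∀ v ∈ perp D a ∩ (Subgroup.centralizer (X : Set G) : Set G), Commute u v → u = v)
    (hC : Nat.card ↥(Subgroup.centralizer (X : Set G)) = p * 120) :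
    ∃ F : Subgroup G, Nat.card ↥F * 120 = Nat.card ↥(Subgroup.normalizer (X : Set G)) ∧ X ≤ F ∧
      F ⊓ Subgroup.centralizer (X : Set G) = X ∧ F ⊓ Subgroup.closure S = ⊥ ∧
      (∀ x ∈ F, ∀ y ∈ Subgroup.closure S, x * y = y * x) ∧
      F ⊔ Subgroup.closure S = Subgroup.normalizer (X : Set G) ∧
      Nonempty (↥(Subgroup.closure S) ≃* Perm (Fin 5)) := by
  classical
  obtain ⟨M, hM⟩ : ∃ M, M = Subgroup.centralizer (X : Set G) := ⟨_, rfl⟩
  rw [← hM] at hSdef hk hnc
  obtain ⟨T, hTdef⟩ : ∃ T : Set ↥M, T = {x : ↥M | (x : G) ∈ D} := ⟨_, rfl⟩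
  have hTS : ∀ x : ↥M, x ∈ T ↔ (x : G) ∈ S := fun x => by
    rw [hTdef, hSdef]; exact ⟨fun h => ⟨h, x.2⟩, fun h => h.1⟩
  have hnb : ∀ a ∈ T, ∀ y, y ∈ LocalSym.nbrs T a ↔ (y : G) ∈ perp D (a : G) ∩ (M : Set G) := by
    intro a ha y
    rw [hTdef]
    exact ⟨fun h => ⟨⟨h.1, fun e => h.2.1 (Subtype.ext e), congrArg Subtype.val h.2.2⟩, y.2⟩,
      fun h => ⟨h.1.1, fun e => h.1.2.1 (congrArg Subtype.val e), Subtype.ext h.1.2.2.eq⟩⟩
  have hnb3 : ∀ a ∈ T, (LocalSym.nbrs T a).ncard = 3 := by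
    intro a ha
    rw [← hk a ((hTS a).1 ha), ← Set.ncard_image_of_injective (LocalSym.nbrs T a) M.subtype_injective]
    refine congrArg Set.ncard (Set.ext fun y => ⟨?_, fun hy => ⟨⟨y, hy.2⟩, (hnb a ha _).2 hy, rfl⟩⟩)
    rintro ⟨z, hz, rfl⟩
    exact (hnb a ha z).1 hz
  have hcub : LocalSym.Cubic T := by
    refine ⟨⟨fun x hx => ?_, fun x hx y hy => ?_⟩, fun g x hx => ?_, fun a ha => ?_, fun a ha u hu v hv hne hc => ?_,
      fun a ha u hu v hv hne w hw => ?_⟩
    · rw [hTdef] at hx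
      rw [← Subgroup.orderOf_coe]
      exact hT.set.1 _ hx
    · rw [hTdef] at hx hy
      exact (hT.set.2 _ hx _ hy).imp (fun h => Subtype.ext (by simpa using h)) fun h => Subtype.ext (by simpa using h)
    · rw [hTdef] at hx ⊢
      exact hT.conj g x hx
    · obtain ⟨u, v, w, huv, -, -, h⟩ := Set.ncard_eq_three.1 (hnb3 a ha)
      exact ⟨u, by simp [h], v, by simp [h], huv⟩
    · exact hne (Subtype.ext (hnc a ((hTS a).1 ha) _ ((hnb a ha u).1 hu) _ ((hnb a ha v).1 hv)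
        (congrArg Subtype.val hc)))
    · have hu' := (hnb a ha u).1 hu
      have hv' := (hnb a ha v).1 hv
      have hn : ¬ Commute (u : G) v := fun h => hne (Subtype.ext (hnc a ((hTS a).1 ha) _ hu' _ hv' h))
      have hw' : u * v * u ∈ LocalSym.nbrs T a := by
        refine (hnb a ha _).2 ⟨⟨?_, ?_, ?_⟩, (u * v * u : ↥M).2⟩
        · exact cj_mem hT hu'.1.1 hv'.1.1
        · intro e
          have hua : cj (u : G) a = a := cj_of_commute hT hu'.1.1 hu'.1.2.2.symm
          exact hv'.1.2.1 ((cj_inj hT hu'.1.1).1 (e.trans hua.symm))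
        · exact (hu'.1.2.2.mul_right hv'.1.2.2).mul_right hu'.1.2.2
      have h1 : u * v * u ≠ u := fun e => by
        have e' : cj (u : G) v = u := congrArg Subtype.val e
        exact hne (Subtype.ext ((cj_inj hT hu'.1.1).1 (e'.trans (cj_self hT hu'.1.1).symm))).symm
      have h2 : u * v * u ≠ v := fun e => hn ((cj_eq_self hT hu'.1.1).1 (congrArg Subtype.val e))
      have hsub : ({u, v, u * v * u} : Set ↥M) ⊆ LocalSym.nbrs T a := by
        rintro z (rfl | rfl | rfl)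
        exacts [hu, hv, hw']
      have heq := Set.eq_of_subset_of_ncard_le hsub (by
        rw [hnb3 a ha, Set.ncard_eq_three.2 ⟨u, v, u * v * u, hne, h1.symm, h2.symm, rfl⟩])
      rw [← heq] at hw
      exact hw
  have hTc : T.ncard = 10 := by
    rw [← hS, ← Set.ncard_image_of_injective T M.subtype_injective]
    refine congrArg Set.ncard (Set.ext fun y => ⟨?_, fun hy => ⟨⟨y, ?_⟩, (hTS _).2 hy, rfl⟩⟩)
    · rintro ⟨z, hz, rfl⟩
      exact (hTS z).1 hz
    · rw [hSdef] at hy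
      exact hy.2
  -- two neighbours with different neighbourhoods
  obtain ⟨a, ha, d, hd, x, hx, b, hb, hbx⟩ :
      ∃ a ∈ T, ∃ d ∈ LocalSym.nbrs T a, ∃ x ∈ LocalSym.nbrs T a, ∃ b ∈ LocalSym.nbrs T d, b ∉ LocalSym.nbrs T x := by
    by_contra hcon
    push Not at hcon
    have hall : ∀ a ∈ T, ∀ d ∈ LocalSym.nbrs T a, ∀ x ∈ LocalSym.nbrs T a,
        LocalSym.nbrs T d = LocalSym.nbrs T x := fun a ha d hd x hx =>
      Set.Subset.antisymm (fun b hb => hcon a ha d hd x hx b hb) (fun b hb => hcon a ha x hx d hd b hb)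
    obtain ⟨a, ha⟩ : T.Nonempty := Set.nonempty_of_ncard_ne_zero (by omega)
    obtain ⟨d, hd, -⟩ := hcub.two a ha
    obtain ⟨U, hU⟩ : ∃ U, U = LocalSym.nbrs T a ∪ LocalSym.nbrs T d := ⟨_, rfl⟩
    have had := hcub.mem_symm ha hd
    have hcl : ∀ t ∈ U, ∀ y ∈ LocalSym.nbrs T t, y ∈ U := by
      rw [hU]
      rintro t (ht | ht) y hy
      · exact Or.inr (hall a ha t ht d hd ▸ hy)
      · exact Or.inl (hall d hd.1 t ht a had ▸ hy)
    have hUT : U ⊆ T := by rw [hU]; rintro t (h | h) <;> exact h.1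
    have hU6 : U.ncard ≤ 6 := by
      rw [hU]; exact (Set.ncard_union_le _ _).trans (by rw [hnb3 a ha, hnb3 d hd.1])
    have hR : 4 ≤ (T \ U).ncard := by rw [Set.ncard_sdiff hUT]; omega
    obtain ⟨e, he⟩ : (T \ U).Nonempty := Set.nonempty_of_ncard_ne_zero (by omega)
    have hsub : ∀ r ∈ T \ U, LocalSym.nbrs T r ⊆ T \ U := fun r hr y hy =>
      ⟨hy.1, fun h => hr.2 (hcl y h r (hcub.mem_symm hr.1 hy))⟩
    have hR4 : (T \ U).ncard = 4 := by
      have h3 : 6 ≤ U.ncard := by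
        rw [hU, Set.ncard_union_eq, hnb3 a ha, hnb3 d hd.1]
        exact Set.disjoint_left.2 fun z hz hz' => by
          by_cases hzd : z = d
          · exact hz'.2.1 hzd
          · exact hcub.not_comm ha hz hd hzd hz'.2.2.symm
      rw [Set.ncard_sdiff hUT]; omega
    have hfull : ∀ r ∈ T \ U, ∀ y ∈ T \ U, y ≠ r → y ∈ LocalSym.nbrs T r := by
      intro r hr y hy hne
      have h := Set.eq_of_subset_of_ncard_le (Set.subset_sdiff_singleton (hsub r hr) fun h => h.2.1 rfl) (by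
        rw [Set.ncard_sdiff_singleton_of_mem hr, hR4, hnb3 r hr.1])
      rw [h]
      exact ⟨hy, hne⟩
    obtain ⟨u, hu, v, hv, huv⟩ := hcub.two e he.1
    exact hcub.not_comm he.1 hu hv huv (hfull u (hsub e he hu) v (hsub e he hv) huv.symm).2.2
  obtain ⟨φ', hinj', hmem', hcl'⟩ := hcub.exists_sym_five ha hd hx hb hbx
  obtain ⟨φ, hφ⟩ : ∃ φ : Perm (Fin 5) →* G, φ = M.subtype.comp φ' := ⟨_, rfl⟩
  have hinj : Function.Injective φ := hφ ▸ M.subtype_injective.comp hinj'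
  have hmemS : ∀ i j, i ≠ j → φ (swap i j) ∈ S := fun i j h => by
    rw [hφ]; exact (hTS _).1 (hmem' i j h)
  have hall : ∀ s ∈ S, ∃ i j, i ≠ j ∧ φ (swap i j) = s := fun s hs => by
    have hsM : s ∈ M := by rw [hSdef] at hs; exact hs.2
    obtain ⟨i, j, hij, e⟩ := hcub.exists_eq_swap hinj' hmem' hcl' (e := ⟨s, hsM⟩) ((hTS _).2 hs)
    exact ⟨i, j, hij, by rw [hφ, MonoidHom.comp_apply, e]; rfl⟩
  have hrange : φ.range = Subgroup.closure S := by
    apply le_antisymm
    · rintro _ ⟨σ, rfl⟩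
      induction σ using Equiv.Perm.swap_induction_on with
      | one => rw [map_one]; exact one_mem _
      | swap_mul f i j hij ih => rw [map_mul]; exact mul_mem (Subgroup.subset_closure (hmemS i j hij)) ih
    · refine (Subgroup.closure_le _).2 fun e he => ?_
      obtain ⟨i, j, -, h⟩ := hall e he
      exact ⟨_, h⟩
  obtain ⟨L, hL⟩ : ∃ L, L = Subgroup.closure S := ⟨_, rfl⟩
  have hCX : S ⊆ (Subgroup.centralizer (X : Set G) : Set G) := fun s hs => by
    rw [hSdef] at hs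
    exact hM ▸ hs.2
  obtain ⟨π, hπ, hker⟩ := exists_action (Subgroup.normalizer (X : Set G)) S fun g hg s hs => by
    rw [hSdef, hM] at hs ⊢
    exact fixed_stable (fun u hu => hT.conj g u hu) hg hs
  have hLN : L ≤ Subgroup.normalizer (X : Set G) := by
    rw [hL, Subgroup.closure_le]
    exact fun s hs => Subgroup.centralizer_le_normalizer _ (hCX hs)
  have hker' : π.rangeRestrict.ker.map (Subgroup.normalizer (X : Set G)).subtype =
      Subgroup.normalizer (X : Set G) ⊓ Subgroup.centralizer S := by rw [MonoidHom.ker_rangeRestrict, hker]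
  have hbij : Function.Bijective (π.rangeRestrict.comp (Subgroup.inclusion hLN)) := by
    refine ⟨(injective_iff_map_eq_one _).2 fun l hl => ?_, ?_⟩
    · obtain ⟨σ, hσ⟩ : (l : G) ∈ φ.range := hrange ▸ hL ▸ l.2
      have hσ1 : σ = 1 := by
        refine (by decide +kernel : ∀ σ : Perm (Fin 5), (∀ p q, p ≠ q → σ * swap p q = swap p q * σ) → σ = 1) σ
          fun p q hpq => hinj ?_
        have h := congrArg Subtype.val hl
        rw [map_mul, map_mul, hσ]
        exact mul_inv_eq_iff_eq_mul.1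
          ((hπ _ ⟨_, hmemS p q hpq⟩).symm.trans (congrArg Subtype.val (Equiv.ext_iff.1 h ⟨_, hmemS p q hpq⟩)))
      exact Subtype.ext (by rw [← hσ, hσ1, map_one]; rfl)
    · rintro ⟨_, n, rfl⟩
      have hmap : ∀ p q, p ≠ q → ∃ r s, r ≠ s ∧ φ (swap r s) = (n : G) * φ (swap p q) * (n : G)⁻¹ := fun p q h => by
        refine hall _ ?_
        rw [← hπ n ⟨_, hmemS p q h⟩]
        exact (π n ⟨_, hmemS p q h⟩).2
      have hne : ∀ i : Fin 4, i.castSucc ≠ i.succ := by decide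
      choose r s hrs hφn using fun i : Fin 4 => hmap i.castSucc i.succ (hne i)
      obtain ⟨σ, hσ⟩ := exists_conj_chain (fun i => swap (r i) (s i)) (fun i => ⟨_, _, hrs i, rfl⟩) fun i j => by
        refine ⟨fun h => hinj ((MulAut.conj (n : G)).injective ?_), fun h => hinj ?_⟩
        · rw [map_mul φ, map_mul φ, map_mul (MulAut.conj (n : G)), map_mul (MulAut.conj (n : G)), MulAut.conj_apply,
            MulAut.conj_apply, ← hφn i, ← hφn j, ← map_mul, ← map_mul, h]
        · have h' := congrArg (fun z => MulAut.conj (n : G) (φ z)) h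
          simp only [map_mul, MulAut.conj_apply, ← hφn] at h'
          rw [map_mul, map_mul]
          exact h'
      refine ⟨⟨φ σ, hL ▸ hrange ▸ ⟨σ, rfl⟩⟩, Subtype.ext (Equiv.ext fun u => Subtype.ext ?_)⟩
      show (π ⟨φ σ, _⟩ u : G) = (π n u : G)
      rw [hπ, hπ]
      obtain ⟨p, q, hpq, hu⟩ := hall u u.2
      show φ σ * (u : G) * (φ σ)⁻¹ = _
      rw [← hu]
      suffices h : (n : G)⁻¹ * φ σ ∈ Subgroup.centralizer (φ.range : Set G) by
        have h' := Subgroup.mem_centralizer_iff.1 h (φ (swap p q)) ⟨_, rfl⟩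
        calc φ σ * φ (swap p q) * (φ σ)⁻¹ = (n : G) * ((n : G)⁻¹ * φ σ * φ (swap p q)) * (φ σ)⁻¹ := by group
          _ = _ := by rw [← h']; group
      rw [Subgroup.mem_centralizer_iff]
      rintro _ ⟨τ, rfl⟩
      refine (show Commute ((n : G)⁻¹ * φ σ) (φ τ) from ?_).symm
      have hτ : τ ∈ Submonoid.closure (Set.range fun i : Fin 4 => swap i.castSucc i.succ) := by
        rw [Equiv.Perm.mclosure_swap_castSucc_succ 4]; trivial
      induction hτ using Submonoid.closure_induction with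
      | mem y hy =>
        obtain ⟨i, rfl⟩ := hy
        have h1 : φ σ * φ (swap i.castSucc i.succ) * (φ σ)⁻¹ = (n : G) * φ (swap i.castSucc i.succ) * (n : G)⁻¹ := by
          rw [← map_inv, ← map_mul, ← map_mul, hσ i, hφn i]
        refine mul_inv_eq_iff_eq_mul.1 ?_
        calc (n : G)⁻¹ * φ σ * φ (swap i.castSucc i.succ) * ((n : G)⁻¹ * φ σ)⁻¹
            = (n : G)⁻¹ * (φ σ * φ (swap i.castSucc i.succ) * (φ σ)⁻¹) * (n : G) := by group
          _ = _ := by rw [h1]; group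
      | one => rw [map_one]; exact Commute.one_right _
      | mul u v _ _ ihu ihv => rw [map_mul]; exact ihu.mul_right ihv
  have eL : ↥L ≃* Perm (Fin 5) :=
    (MulEquiv.subgroupCongr (hL.trans hrange.symm)).trans (MonoidHom.ofInjective hinj).symm
  have hLc : Nat.card L = 120 := by
    rw [Nat.card_congr eL.toEquiv, Nat.card_perm, Nat.card_fin]
    rfl
  obtain ⟨F, h1, h2, h3, h4, h5, h7⟩ :=
    split_fixed hX hL hCX π.rangeRestrict hker' hLN hbij (by rw [hLc]; exact hC)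
  subst hL
  exact ⟨F, hLc ▸ h1, h2, h3, h4, h5, h7, ⟨eL⟩⟩

end Cfsg.Lib.Fischer.Relations.FixSet
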