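import Cfsg.Agent.Lib.Fischer.Relations.FixSet.Basic
import Cfsg.Agent.Lib.Fischer.Relations.Pair.Twenty

/-!
# Members of a class of type M(23) fixed by a subgroup of prime order inside a member centralizer

The centralizer of a member covers a group of type M(22) with kernel of order two, so the normalizer of such
a subgroup, and the members it fixes, are read off from that quotient and from orbit counting.
-/

set_option autoImplicit false
set_option linter.unusedSectionVars false

namespace Cfsg.Lib.Fischer.Relations.FixSet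

open Cfsg Cfsg.Lib.Fischer

variable {G : Type*} [Group G] [Finite G] {D : Set G}

/-- What a member sees of the members fixed by `X`. -/
structure Around (D : Set G) (X : Subgroup G) (a : G) (k nN nC : ℕ) : Prop where
  perp_card : (perp D a ∩ (Subgroup.centralizer (X : Set G) : Set G)).ncard = k
  nc : ∀ u ∈ perp D a ∩ (Subgroup.centralizer (X : Set G) : Set G),
    ∀ v ∈ perp D a ∩ (Subgroup.centralizer (X : Set G) : Set G), Commute u v → u = v
  card_normalizer : Nat.card ↥(Subgroup.normalizer (X : Set G) ⊓ Subgroup.centralizer ({a} : Set G)) = nN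
  card_centralizer : Nat.card ↥(Subgroup.centralizer (X : Set G) ⊓ Subgroup.centralizer ({a} : Set G)) = nC

theorem mem_map_conj {S : Subgroup G} {g y : G} :
    y ∈ S.map (MulAut.conj g).toMonoidHom ↔ g⁻¹ * y * g ∈ S := by
  rw [Subgroup.mem_map_equiv]
  rfl

theorem commute_map_iff {X : Subgroup G} {g y : G} :
    (∀ x ∈ X.map (MulAut.conj g).toMonoidHom, Commute x (g * y * g⁻¹)) ↔ ∀ x ∈ X, Commute x y := by
  refine ⟨fun h x hx => (Commute.conj_iff g).1 (h _ ⟨x, hx, rfl⟩), ?_⟩
  rintro h _ ⟨x, hx, rfl⟩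
  exact (Commute.conj_iff g).2 (h x hx)

theorem centralizer_map (X : Subgroup G) (g : G) :
    (Subgroup.centralizer (X : Set G)).map (MulAut.conj g).toMonoidHom =
      Subgroup.centralizer ((X.map (MulAut.conj g).toMonoidHom : Subgroup G) : Set G) := by
  ext y
  rw [mem_map_conj, Subgroup.mem_centralizer_iff, Subgroup.mem_centralizer_iff]
  have h := commute_map_iff (X := X) (g := g) (y := g⁻¹ * y * g)
  rw [show g * (g⁻¹ * y * g) * g⁻¹ = y by group] at h
  exact h.symm

theorem centralizer_singleton_map (a g : G) :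
    (Subgroup.centralizer ({a} : Set G)).map (MulAut.conj g).toMonoidHom =
      Subgroup.centralizer ({g * a * g⁻¹} : Set G) := by
  ext y
  rw [mem_map_conj, Subgroup.mem_centralizer_singleton_iff, Subgroup.mem_centralizer_singleton_iff]
  have h : Commute (g * (g⁻¹ * y * g) * g⁻¹) (g * a * g⁻¹) ↔ Commute (g⁻¹ * y * g) a := Commute.conj_iff g
  rw [show g * (g⁻¹ * y * g) * g⁻¹ = y by group] at h
  exact h.symm

theorem perp_image (hT : Trans D) (X : Subgroup G) (a g : G) :
    (fun e => g * e * g⁻¹) '' (perp D a ∩ (Subgroup.centralizer (X : Set G) : Set G)) =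
      perp D (g * a * g⁻¹) ∩
        (Subgroup.centralizer ((X.map (MulAut.conj g).toMonoidHom : Subgroup G) : Set G) : Set G) := by
  ext y
  constructor
  · rintro ⟨e, he, rfl⟩
    obtain ⟨hp, hf⟩ := mem_fixed.1 he
    exact mem_fixed.2 ⟨⟨hT.conj g e hp.1, fun h => hp.2.1 ((MulAut.conj g).injective h),
      (Commute.conj_iff g).2 hp.2.2⟩, commute_map_iff.2 hf⟩
  · intro hy
    obtain ⟨hp, hf⟩ := mem_fixed.1 hy
    have e : g * (g⁻¹ * y * g) * g⁻¹ = y := by group
    refine ⟨g⁻¹ * y * g, mem_fixed.2 ⟨⟨by simpa using hT.conj g⁻¹ y hp.1, fun h => hp.2.1 (by rw [← h, e]),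
      (Commute.conj_iff g).1 (e.symm ▸ hp.2.2)⟩, commute_map_iff.1 (e.symm ▸ hf)⟩, e⟩

theorem fixed_card_map (hT : Trans D) (X : Subgroup G) (g : G) :
    (D ∩ (Subgroup.centralizer ((X.map (MulAut.conj g).toMonoidHom : Subgroup G) : Set G) : Set G)).ncard =
      (D ∩ (Subgroup.centralizer (X : Set G) : Set G)).ncard := by
  rw [← Set.ncard_image_of_injective (D ∩ (Subgroup.centralizer (X : Set G) : Set G)) (MulAut.conj g).injective]
  refine congrArg Set.ncard (Set.ext fun y => ⟨fun hy => ?_, ?_⟩)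
  · obtain ⟨hp, hf⟩ := mem_fixed.1 hy
    have e : g * (g⁻¹ * y * g) * g⁻¹ = y := by group
    exact ⟨g⁻¹ * y * g, mem_fixed.2 ⟨by simpa using hT.conj g⁻¹ y hp, commute_map_iff.1 (e.symm ▸ hf)⟩, e⟩
  · rintro ⟨e, he, rfl⟩
    exact mem_fixed.2 ⟨hT.conj g e (mem_fixed.1 he).1, commute_map_iff.2 (mem_fixed.1 he).2⟩

theorem Around.of_map (hT : Trans D) {X : Subgroup G} {a g : G} {k nN nC : ℕ}
    (h : Around D (X.map (MulAut.conj g).toMonoidHom) (g * a * g⁻¹) k nN nC) : Around D X a k nN nC := by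
  have hinj := (MulAut.conj g).injective
  refine ⟨?_, fun u hu v hv huv => hinj (h.nc _ ((perp_image hT X a g) ▸ ⟨u, hu, rfl⟩) _
    ((perp_image hT X a g) ▸ ⟨v, hv, rfl⟩) ((Commute.conj_iff g).2 huv)), ?_, ?_⟩
  · rw [← h.perp_card, ← perp_image hT X a g]
    exact (Set.ncard_image_of_injective _ hinj).symm
  · rw [← h.card_normalizer, ← centralizer_singleton_map a g,
      ← Subgroup.map_equiv_normalizer_eq X (MulAut.conj g), ← Subgroup.map_inf _ _ _ hinj,
      Subgroup.card_map_of_injective hinj]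
  · rw [← h.card_centralizer, ← centralizer_singleton_map a g, ← centralizer_map X g,
      ← Subgroup.map_inf _ _ _ hinj, Subgroup.card_map_of_injective hinj]

variable {F : Type} [Field F] [Fintype F] {hF : Fintype.card F = 2 ^ 2} {d b : G}

/-- The map onto the quotient of type M(22). -/
theorem exists_map (C : Coord23 D d b hF) :
    ∃ φ : ↥(Subgroup.centralizer ({d} : Set G)) →*
        ↥(Subgroup.closure (perp D d)) ⧸ Subgroup.center ↥(Subgroup.closure (perp D d)),
      Function.Surjective φ ∧ Nat.card φ.ker = 2 ∧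
      ∀ e (he : e ∈ perp D d) (y : ↥(Subgroup.centralizer ({d} : Set G))),
        Commute (y : G) e ↔ Commute (φ y) (bar he) := by
  obtain ⟨ψ, hψ⟩ : ∃ ψ : ↥(Subgroup.centralizer ({d} : Set G)) ≃* ↥(Subgroup.closure (perp D d)),
      ∀ h, (ψ h : G) = h := ⟨MulEquiv.subgroupCongr C.centralizer_eq.symm, fun _ => rfl⟩
  refine ⟨(QuotientGroup.mk' _).comp ψ.toMonoidHom, (QuotientGroup.mk'_surjective _).comp ψ.surjective, ?_,
    fun e he y => ?_⟩
  · have hd : d ∈ Subgroup.closure (perp D d) := C.mem_closure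
    rw [← MonoidHom.comap_ker, QuotientGroup.ker_mk',
      Nat.card_congr (show ↥((Subgroup.center ↥(Subgroup.closure (perp D d))).comap ψ.toMonoidHom) ≃
        ↥(Subgroup.center ↥(Subgroup.closure (perp D d))) from ψ.toEquiv.subtypeEquiv fun _ => Iff.rfl),
      C.center_eq,
      Nat.card_congr (Subgroup.subgroupOfEquivOfLe (Subgroup.zpowers_le.2 hd)).toEquiv, Nat.card_zpowers,
      C.data.trans.set.1 d C.data.mem]
  · have hyd : Commute (y : G) d := Subgroup.mem_centralizer_singleton_iff.1 y.2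
    show Commute (y : G) e ↔ Commute (QuotientGroup.mk (ψ y)) (bar he)
    refine ⟨fun h => Commute.map (show Commute (ψ y) ⟨e, Subgroup.subset_closure he⟩ from
      Subtype.ext (show (ψ y : G) * e = e * (ψ y : G) by rw [hψ]; exact h.eq)) (QuotientGroup.mk' _), fun h => ?_⟩
    have hb : bar (C.data.conj_mem hyd he) = QuotientGroup.mk (ψ y) * bar he * (QuotientGroup.mk (ψ y))⁻¹ := by
      rw [bar, bar, ← QuotientGroup.mk_inv, ← QuotientGroup.mk_mul, ← QuotientGroup.mk_mul]
      exact congrArg QuotientGroup.mk (Subtype.ext (by simp [hψ]))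
    exact mul_inv_eq_iff_eq_mul.1 (bar_inj C.data.trans (fun _ hu => hu.1) C.data.nc (C.data.conj_mem hyd he) he
      (by rw [hb, h.eq, mul_inv_cancel_right]))

theorem card_centralizer_member (C : Coord23 D d b hF) :
    Nat.card ↥(Subgroup.centralizer ({d} : Set G)) = 129123503308800 := by
  rw [← C.centralizer_eq, C.card_closure]

theorem member_stable (C : Coord23 D d b hF) :
    ∀ k ∈ Subgroup.centralizer ({d} : Set G), ∀ u ∈ perp D d, k * u * k⁻¹ ∈ perp D d :=
  fun _ hk _ hu => C.data.conj_mem (Subgroup.mem_centralizer_singleton_iff.1 hk) hu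

theorem member_trans (C : Coord23 D d b hF) :
    ∀ u ∈ perp D d, ∀ v ∈ perp D d, ∃ k ∈ Subgroup.centralizer ({d} : Set G), k * u * k⁻¹ = v :=
  fun _ hu _ hv => by
    obtain ⟨k, hk, e⟩ := perp_transitive C.data.fis C.data.mem hu hv
    exact ⟨k, C.centralizer_eq ▸ hk, e⟩

/-- Thirteen fixes no neighbour. -/
theorem thirteen_perp (C : Coord23 D d b hF) {X : Subgroup G} (hX : Nat.card X = 13)
    (hXd : X ≤ Subgroup.centralizer ({d} : Set G)) :
    perp D d ∩ (Subgroup.centralizer (X : Set G) : Set G) = ∅ := by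
  refine Set.eq_empty_iff_forall_notMem.2 fun e he => ?_
  obtain ⟨hp, hf⟩ := mem_fixed.1 he
  have h := stab_dvd (O := perp D d) hX hXd (member_stable C) (member_trans C) hp hf
  rw [C.params.val d C.data.mem, card_centralizer_member C] at h
  norm_num at h

/-- The fixed members seen from `d`, from the data of the quotient. -/
theorem around_member (C : Coord23 D d b hF) {p k n₀ nN nC m : ℕ} (hp : p.Prime) (hp2 : p ≠ 2)
    (hm : 129123503308800 = p * m) (hm' : ¬ p ∣ m)
    (hnum : ∀ n, n = 0 ∨ n * p ∣ 2 * nN → 31671 % p = (1 + k + n) % p → n = n₀)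
    (himg : ∀ Y : Subgroup (↥(Subgroup.closure (perp D d)) ⧸ Subgroup.center ↥(Subgroup.closure (perp D d))),
      Nat.card Y = p → Nat.card ↥(Subgroup.normalizer (SetLike.coe Y)) = nN ∧
        Nat.card ↥(Subgroup.centralizer (SetLike.coe Y)) = nC)
    (hperp : ∀ X : Subgroup G, Nat.card X = p → X ≤ Subgroup.centralizer ({d} : Set G) →
      (perp D d ∩ (Subgroup.centralizer (X : Set G) : Set G)).ncard = k ∧
      ∀ u ∈ perp D d ∩ (Subgroup.centralizer (X : Set G) : Set G),
        ∀ v ∈ perp D d ∩ (Subgroup.centralizer (X : Set G) : Set G), Commute u v → u = v)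
    (hDc : D.ncard = 31671) {X : Subgroup G} (hX : Nat.card X = p)
    (hXd : X ≤ Subgroup.centralizer ({d} : Set G)) :
    (D ∩ (Subgroup.centralizer (X : Set G) : Set G)).ncard = 1 + k + n₀ ∧ Around D X d k (2 * nN) (2 * nC) := by
  have hT := C.data.trans
  have hd := C.data.mem
  obtain ⟨φ, hφ, hker, -⟩ := exists_map C
  obtain ⟨hY, hN, hC⟩ := card_preimage φ hφ hker hp hp2 hX hXd
  obtain ⟨hNY, hCY⟩ := himg _ hY
  rw [hNY] at hN
  rw [hCY] at hC
  obtain ⟨hk, hnc⟩ := hperp X hX hXd
  refine ⟨?_, hk, hnc, hN, hC⟩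
  have hdX : d ∈ D ∩ (Subgroup.centralizer (X : Set G) : Set G) :=
    mem_fixed.2 ⟨hd, fun x hx => Subgroup.mem_centralizer_singleton_iff.1 (hXd hx)⟩
  have hsplit := card_split hd (D ∩ (Subgroup.centralizer (X : Set G) : Set G)) Set.inter_subset_left hdX
  rw [Set.inter_right_comm, Set.inter_eq_right.2 (fun u (hu : u ∈ perp D d) => hu.1), hk,
    Set.inter_right_comm, Set.inter_eq_right.2 (fun u (hu : u ∈ far D d) => hu.1)] at hsplit
  rw [hsplit]
  congr 1
  refine hnum _ ?_ ?_
  · rcases (far D d ∩ (Subgroup.centralizer (X : Set G) : Set G)).eq_empty_or_nonempty with h | h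
    · exact Or.inl (by rw [h, Set.ncard_empty])
    refine Or.inr ?_
    rw [← hN]
    refine fixed_dvd hp (by rw [card_centralizer_member C, hm]) hm' hX hXd (fun g hg y hy => ?_)
      (fun u hu v hv => ?_) h
    · have hgd : Commute g d := Subgroup.mem_centralizer_singleton_iff.1 hg
      refine ⟨hT.conj g y hy.1, fun h => hy.2 ((Commute.conj_iff g).1 ?_)⟩
      rwa [show g * d * g⁻¹ = d by rw [hgd.eq, mul_inv_cancel_right]]
    · obtain ⟨g, hg, hge⟩ := orb_all C.data.fis hd hu.1 hv.1 (fun h => hu.2 h.symm) (fun h => hv.2 h.symm)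
      exact ⟨g, Subgroup.mem_centralizer_singleton_iff.2 (commute_of_mem_closure C.data.fis hd hg).eq, hge⟩
  · have h := card_fixed_mod hT.conj hp hX
    rwa [hDc, hsplit] at h

/-- Moving the data around. -/
theorem around_all (hT : Trans D) {p f k nN nC : ℕ} (hp : p.Prime) (hDc : D.ncard = 31671) (hmod : 31671 % p ≠ 0)
    (hd : d ∈ D)
    (hbase : ∀ X : Subgroup G, Nat.card X = p → X ≤ Subgroup.centralizer ({d} : Set G) →
      (D ∩ (Subgroup.centralizer (X : Set G) : Set G)).ncard = f ∧ Around D X d k nN nC)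
    {X : Subgroup G} (hX : Nat.card X = p) :
    (D ∩ (Subgroup.centralizer (X : Set G) : Set G)).ncard = f ∧
      ∀ a ∈ D ∩ (Subgroup.centralizer (X : Set G) : Set G), Around D X a k nN nC := by
  have key : ∀ a ∈ D ∩ (Subgroup.centralizer (X : Set G) : Set G),
      (D ∩ (Subgroup.centralizer (X : Set G) : Set G)).ncard = f ∧ Around D X a k nN nC := by
    intro a ha
    obtain ⟨haD, haX⟩ := mem_fixed.1 ha
    obtain ⟨g, hg⟩ := hT.trans a haD d hd
    obtain ⟨h1, h2⟩ := hbase (X.map (MulAut.conj g).toMonoidHom)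
      (by rw [Subgroup.card_map_of_injective (MulAut.conj g).injective, hX]) (by
        intro y hy
        refine Subgroup.mem_centralizer_singleton_iff.2 ?_
        rw [← hg]
        exact (commute_map_iff.2 haX y hy).eq)
    rw [fixed_card_map hT] at h1
    exact ⟨h1, Around.of_map hT (g := g) (hg.symm ▸ h2)⟩
  obtain ⟨a, ha⟩ : (D ∩ (Subgroup.centralizer (X : Set G) : Set G)).Nonempty := by
    refine Set.nonempty_of_ncard_ne_zero fun h => hmod ?_
    have h' := card_fixed_mod hT.conj hp hX
    rw [hDc, h] at h'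
    exact h'
  exact ⟨(key a ha).1, fun u hu => (key u hu).2⟩

/-- Transitivity of the centralizer of `X` on its fixed members, when they are linked by non-commuting pairs. -/
theorem card_of_linked (hT : Trans D) {X : Subgroup G} {a : G} {f k nN nC : ℕ}
    (hf : (D ∩ (Subgroup.centralizer (X : Set G) : Set G)).ncard = f)
    (ha : a ∈ D ∩ (Subgroup.centralizer (X : Set G) : Set G)) (hA : Around D X a k nN nC)
    (htr : ∀ u ∈ D ∩ (Subgroup.centralizer (X : Set G) : Set G),
      ∃ g ∈ Subgroup.centralizer (X : Set G), g * a * g⁻¹ = u) :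
    Nat.card ↥(Subgroup.normalizer (X : Set G)) = f * nN ∧ Nat.card ↥(Subgroup.centralizer (X : Set G)) = f * nC := by
  have hCN : Subgroup.centralizer (X : Set G) ≤ Subgroup.normalizer (X : Set G) := Subgroup.centralizer_le_normalizer _
  refine ⟨?_, ?_⟩
  · rw [card_conj_orbit (K := Subgroup.normalizer (X : Set G)) ha
      (fun g hg y hy => fixed_stable (fun u hu => hT.conj g u hu) hg hy)
      (fun y hy => by obtain ⟨g, hg, e⟩ := htr y hy; exact ⟨g, hCN hg, e⟩), Nat.card_coe_set_eq, hf,
      hA.card_normalizer]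
  · rw [card_conj_orbit (K := Subgroup.centralizer (X : Set G)) ha
      (fun g hg y hy => fixed_stable (fun u hu => hT.conj g u hu) (hCN hg) hy) htr, Nat.card_coe_set_eq, hf,
      hA.card_centralizer]

/-- A third member conjugates one of a non-commuting pair to the other. -/
theorem link (hT : Trans D) {X : Subgroup G} {u v : G}
    (hu : u ∈ D ∩ (Subgroup.centralizer (X : Set G) : Set G))
    (hv : v ∈ D ∩ (Subgroup.centralizer (X : Set G) : Set G)) (h : ¬ Commute u v) :
    cj u v ∈ D ∩ (Subgroup.centralizer (X : Set G) : Set G) ∧ cj u v * u * (cj u v)⁻¹ = v := by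
  refine ⟨⟨cj_mem hT hu.1 hv.1, ?_⟩, ?_⟩
  · exact mul_mem (mul_mem hu.2 hv.2) hu.2
  · rw [← cj_conj hT (cj_mem hT hu.1 hv.1)]
    exact cj_third hT hu.1 hv.1 h

end Cfsg.Lib.Fischer.Relations.FixSet
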